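import Cfsg.Agent.H1.Cores
import Cfsg.Agent.H1.CoprimeAction

/-!
Groups in which every two elements generate a proper soluble subgroup: elementary facts.
-/

set_option autoImplicit false
set_option linter.style.haveILetI false

namespace H83.TwoGen

open Subgroup
open scoped commutatorElement

universe u

variable {G : Type u} [Group G]

/-- A minimal counterexample to two-generator solubility, with a prime `p ≥ 5`. -/
structure Setup (G : Type u) [Group G] (p : ℕ) : Prop where
  five : 5 ≤ p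
  dvd : p ∣ Nat.card G
  simple : IsSimpleGroup G
  notSol : ¬ Group.IsSolvable G
  sol : ∀ H : Subgroup G, H ≠ ⊤ → Group.IsSolvable H
  gen : ∀ a b : G, closure ({a, b} : Set G) ≠ ⊤

theorem Setup.center_eq_bot {p : ℕ} (hS : Setup G p) : center G = ⊥ := by
  haveI := hS.simple
  rcases (inferInstance : (center G).Normal).eq_bot_or_eq_top with h | h
  · exact h
  · refine absurd ?_ hS.notSol
    exact Group.isSolvable_of_comm fun a b => (mem_center_iff.mp (h ▸ mem_top a : a ∈ center G) b).symm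

theorem Setup.centralizer_ne_top {p : ℕ} (hS : Setup G p) {x : G} (hx : x ≠ 1) :
    centralizer ({x} : Set G) ≠ ⊤ := fun h => hx (by
  rw [← Subgroup.mem_bot, ← hS.center_eq_bot, mem_center_iff]
  exact fun g => mem_centralizer_singleton_iff.mp (h ▸ mem_top g : g ∈ centralizer ({x} : Set G)))

theorem Setup.normalizer_ne_top {p : ℕ} (hS : Setup G p) {H : Subgroup G} (h1 : H ≠ ⊥)
    (h2 : H ≠ ⊤) : normalizer (H : Set G) ≠ ⊤ := fun h => by
  haveI := hS.simple
  rcases (normalizer_eq_top_iff.mp h).eq_bot_or_eq_top with e | e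
  · exact h1 e
  · exact h2 e

/-- A subgroup of order prime to `p` is proper. -/
theorem Setup.ne_top_of_not_dvd {p : ℕ} (hS : Setup G p) {H : Subgroup G}
    (h : ¬ p ∣ Nat.card H) : H ≠ ⊤ := fun e => h (by rw [e, card_top]; exact hS.dvd)

/-- An abelian subgroup is proper. -/
theorem Setup.ne_top_of_comm {p : ℕ} (hS : Setup G p) {H : Subgroup G}
    (h : ∀ a ∈ H, ∀ b ∈ H, a * b = b * a) : H ≠ ⊤ := fun e =>
  hS.notSol (Group.isSolvable_of_comm fun a b => h a (e ▸ mem_top a) b (e ▸ mem_top b))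

/-- Homomorphisms to commutative groups are trivial. -/
theorem Setup.hom_eq_one {p : ℕ} (hS : Setup G p) {A : Type*} [CommGroup A] (f : G →* A) (g : G) :
    f g = 1 := by
  haveI := hS.simple
  rcases (inferInstance : f.ker.Normal).eq_bot_or_eq_top with h | h
  · refine absurd ?_ hS.notSol
    exact Group.isSolvable_of_comm fun a b =>
      (MonoidHom.ker_eq_bot_iff f).mp h (by rw [map_mul, map_mul, mul_comm])
  · exact (MonoidHom.mem_ker).mp (h ▸ mem_top g)

/-! ### Commuting elements of coprime orders -/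

/-- Both factors of a product of commuting elements of coprime orders are powers of the product. -/
theorem left_mem_of_mul_mem {a b : G} (hab : Commute a b) (hcop : (orderOf a).Coprime (orderOf b))
    {H : Subgroup G} (h : a * b ∈ H) : a ∈ H := by
  obtain ⟨n, hn1, hn2⟩ := Nat.chineseRemainder hcop 1 0
  have h' := H.pow_mem h n
  rw [hab.mul_pow, pow_eq_pow_iff_modEq.mpr hn1, pow_one,
    orderOf_dvd_iff_pow_eq_one.mp (Nat.modEq_zero_iff_dvd.mp hn2), mul_one] at h'
  exact h'

theorem right_mem_of_mul_mem {a b : G} (hab : Commute a b) (hcop : (orderOf a).Coprime (orderOf b))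
    {H : Subgroup G} (h : a * b ∈ H) : b ∈ H :=
  left_mem_of_mul_mem hab.symm hcop.symm (hab.eq ▸ h)

/-- An element of order `p`. -/
theorem orderOf_of_pow {p : ℕ} [Fact p.Prime] {x : G} (h : x ^ p = 1) (hx : x ≠ 1) :
    orderOf x = p :=
  orderOf_eq_prime h hx

/-- An element of order `p` and an element of order prime to `p`. -/
theorem coprime_orders {p : ℕ} [Fact p.Prime] {x c : G} (h : x ^ p = 1) (hc : ¬ p ∣ orderOf c) :
    (orderOf x).Coprime (orderOf c) :=
  Nat.Coprime.coprime_dvd_left (orderOf_dvd_of_pow_eq_one h)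
    (((Fact.out : p.Prime).coprime_iff_not_dvd).mpr hc)

theorem not_dvd_orderOf_of_mem {p : ℕ} {K : Subgroup G} (hK : ¬ p ∣ Nat.card K) {c : G}
    (hc : c ∈ K) : ¬ p ∣ orderOf c := fun h =>
  hK (h.trans (Subgroup.orderOf_dvd_natCard K hc))

/-- A nontrivial power of an element of order `p` generates it. -/
theorem mem_of_zpow_mem {p : ℕ} [Fact p.Prime] {x y : G} (h : x ^ p = 1) (hy : y ∈ zpowers x)
    (hy1 : y ≠ 1) {H : Subgroup G} (hyH : y ∈ H) : x ∈ H := by
  haveI : Finite (zpowers x) :=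
    isOfFinOrder_iff_pow_eq_one.mpr ⟨p, (Fact.out : p.Prime).pos, h⟩ |>.finite_zpowers
  have hx1 : x ≠ 1 := fun e => hy1 (by simpa [e] using hy)
  have h1 : zpowers y ≤ zpowers x := zpowers_le.mpr hy
  have h2 : zpowers y = zpowers x := by
    refine eq_of_le_of_card_ge h1 ?_
    rw [Nat.card_zpowers, Nat.card_zpowers, orderOf_of_pow h hx1]
    have hyp : y ^ p = 1 := by
      obtain ⟨i, rfl⟩ := mem_zpowers_iff.mp hy
      rw [← zpow_natCast, ← zpow_mul, mul_comm, zpow_mul, zpow_natCast, h, one_zpow]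
    rw [orderOf_of_pow hyp hy1]
  exact zpowers_le.mp (h2.ge.trans (zpowers_le.mpr hyH))

/-- Power maps picking the `q`-part: a congruence `1` on one order and `0` on another. -/
theorem exists_split_exponent {m n : ℕ} (h : m.Coprime n) :
    ∃ a : ℕ, a ≡ 1 [MOD m] ∧ a ≡ 0 [MOD n] := by
  obtain ⟨a, h1, h2⟩ := Nat.chineseRemainder h 1 0
  exact ⟨a, h1, h2⟩

/-- Powers of `t * n` are congruent to powers of `n` modulo a subgroup normalised by `n`. -/
theorem mul_pow_mem {K : Subgroup G} {t n : G} (ht : t ∈ K)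
    (hn : n ∈ normalizer (K : Set G)) (i : ℕ) : (t * n) ^ i * (n ^ i)⁻¹ ∈ K := by
  induction i with
  | zero => simp [one_mem]
  | succ i ih =>
    have e : (t * n) ^ (i + 1) * (n ^ (i + 1))⁻¹ =
        ((t * n) ^ i * (n ^ i)⁻¹) * (n ^ i * t * (n ^ i)⁻¹) := by
      rw [pow_succ, pow_succ]; group
    rw [e]
    exact mul_mem ih ((mem_normalizer_iff.mp (pow_mem hn i) t).mp ht)

/-! ### The core `T` of a subgroup -/

/-- `O_{p'}(L)` inside the ambient group. -/
def T (p : ℕ) (L : Subgroup G) : Subgroup G := (Cfsg.pPrimeCore p ↥L).map L.subtype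

theorem T_le (p : ℕ) (L : Subgroup G) : T p L ≤ L := map_subtype_le _

theorem le_normalizer_T (p : ℕ) (L : Subgroup G) : L ≤ normalizer (T p L : Set G) := by
  refine (normal_subgroupOf_iff_le_normalizer (T_le p L)).mp ?_
  rw [T, Subgroup.subgroupOf, comap_map_eq_self_of_injective L.subtype_injective]
  exact H1.pPrimeCore_normal' p L

theorem T_conj_mem {p : ℕ} {L : Subgroup G} {l t : G} (hl : l ∈ L) (ht : t ∈ T p L) :
    l * t * l⁻¹ ∈ T p L :=
  (mem_normalizer_iff.mp (le_normalizer_T p L hl) t).mp ht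

variable [Finite G]

theorem not_dvd_card_T (p : ℕ) [Fact p.Prime] (L : Subgroup G) : ¬ p ∣ Nat.card (T p L) := by
  rw [T, Nat.card_congr (Subgroup.equivMapOfInjective _ _ L.subtype_injective).symm.toEquiv]
  exact fun hd => ((Fact.out : p.Prime).coprime_iff_not_dvd).mp
    (H1.card_pPrimeCore_coprime p ↥L).symm hd

theorem le_T {p : ℕ} [Fact p.Prime] {L K : Subgroup G} (hKL : K ≤ L)
    (hn : L ≤ normalizer (K : Set G)) (hK : ¬ p ∣ Nat.card K) : K ≤ T p L := by
  haveI : (K.subgroupOf L).Normal := (normal_subgroupOf_iff_le_normalizer hKL).mpr hn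
  refine (map_subgroupOf_eq_of_le hKL).ge.trans (map_mono (H1.le_pPrimeCore ?_))
  rw [Nat.card_congr (subgroupOfEquivOfLe hKL).toEquiv]
  exact (((Fact.out : p.Prime).coprime_iff_not_dvd).mpr hK).symm

theorem T_mem_of_conj {p : ℕ} [Fact p.Prime] {L : Subgroup G} (g : G) {t : G} (ht : t ∈ T p L) :
    g * t * g⁻¹ ∈ T p (L.map (MulAut.conj g).toMonoidHom) := by
  refine le_T (K := (T p L).map (MulAut.conj g).toMonoidHom) (map_mono (T_le p L)) ?_ ?_
    ⟨t, ht, rfl⟩
  · rintro _ ⟨l, hl, rfl⟩
    rw [mem_normalizer_iff_map_conj_eq, map_map]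
    have e := mem_normalizer_iff_map_conj_eq.mp (le_normalizer_T p L hl)
    conv_rhs => rw [← e, map_map]
    congr 1
    ext y
    simp [mul_assoc]
  · rw [card_map_of_injective (MulAut.conj g).injective]
    exact not_dvd_card_T p L

theorem solvable_T {p : ℕ} {L : Subgroup G} (h : Group.IsSolvable L) :
    Group.IsSolvable (T p L) :=
  H1.isSolvable_mono h (T_le p L)

theorem conj_ne_top {L : Subgroup G} (h : L ≠ ⊤) (g : G) :
    L.map (MulAut.conj g).toMonoidHom ≠ ⊤ := fun e => h (by
  refine eq_top_of_card_eq L ?_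
  rw [← card_map_of_injective (K := L) (f := (MulAut.conj g).toMonoidHom)
    (MulAut.conj g).injective, e, card_top])

/-- Coprime decomposition `K = [K, A] C_K(A)`, elementwise. -/
theorem exists_decomp {p : ℕ} [Fact p.Prime] {A K : Subgroup G} (hA : IsPGroup p A)
    (hAK : A ≤ normalizer (K : Set G)) (hK : ¬ p ∣ Nat.card K) {k : G} (hk : k ∈ K) :
    ∃ a ∈ ⁅K, A⁆, ∃ c ∈ K, c ∈ centralizer (A : Set G) ∧ k = a * c := by
  have hcop : (Nat.card A).Coprime (Nat.card K) := by
    obtain ⟨n, hn⟩ := hA.exists_card_eq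
    rw [hn]
    exact Nat.Coprime.pow_left n (((Fact.out : p.Prime).coprime_iff_not_dvd).mpr hK)
  haveI : Group.IsNilpotent A := hA.isNilpotent
  have hs : Group.IsSolvable A := inferInstance
  rw [← H1.commutator_sup_centralizer_eq hAK hcop (Or.inl hs)] at hk
  obtain ⟨a, ha, c, hc, rfl⟩ := H1.exists_mul_of_mem_sup
    ((inf_le_left : K ⊓ centralizer (A : Set G) ≤ K).trans H1.left_le_normalizer_commutator) hk
  exact ⟨a, ha, c, hc.1, hc.2, rfl⟩

end H83.TwoGen
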