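import Cfsg.Agent.H83.TwoGenSol.Local
import Cfsg.Agent.H16.CoprimeCoset
import Cfsg.Agent.H18.CentralChar
import Cfsg.Agent.H20.BlockApps
import Cfsg.Agent.H20.Knorr

/-!
No minimal counterexample has a self-centralising weakly closed subgroup of order `p`:
multiplicativity of the principal block characters on `⟨x⟩`.
-/

set_option autoImplicit false
set_option linter.style.haveILetI false
set_option linter.unusedSectionVars false

namespace H83.TwoGen

open Subgroup Cfsg
open scoped commutatorElement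

universe u

variable {G : Type u} [Group G] [Finite G] {p : ℕ} [Fact p.Prime] {E : Subgroup G}

/-- A commuting element of `[T(D), x]` lies in the core of the centraliser of `x`. -/
theorem Base.mem_theta_of_commute (hB : Base G p E) {x g : G} (hx : InC E x)
    {y : G} (hy : y ∈ ⁅T p (closure ({x, g * x * g⁻¹} : Set G)), zpowers x⁆) (hyx : Commute y x) :
    y ∈ theta p x := by
  set D := closure ({x, g * x * g⁻¹} : Set G) with hDdef
  set Y := ⁅T p D, zpowers x⁆ with hYdef
  have hxD : x ∈ D := subset_closure (Set.mem_insert _ _)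
  have hYT : Y ≤ T p D :=
    H1.commutator_le_left_of_le_normalizer ((zpowers_le.mpr hxD).trans (le_normalizer_T p D))
  have hyp : ¬ p ∣ orderOf y := not_dvd_orderOf_of_mem (not_dvd_card_T p D) (hYT hy)
  set C := centralizer ({x} : Set G) with hCdef
  have hyC : y ∈ C := mem_centralizer_singleton_iff.mpr hyx.eq
  haveI := hB.sol C (hB.toSetup.centralizer_ne_top hx.1)
  haveI := H1.pPrimeCore_normal' p ↥C
  set f := QuotientGroup.mk' (Cfsg.pPrimeCore p ↥C) with hf
  haveI : Group.IsSolvable (↥C ⧸ Cfsg.pPrimeCore p ↥C) := inferInstance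
  set F := Cfsg.pCore p (↥C ⧸ Cfsg.pPrimeCore p ↥C) with hFdef
  haveI := H1.pCore_normal' p (↥C ⧸ Cfsg.pPrimeCore p ↥C)
  have hCF : centralizer (F : Set (↥C ⧸ Cfsg.pPrimeCore p ↥C)) ≤ F :=
    H10.centralizer_pCore_le H10.isPSolvable_of_isSolvable (H1.pPrimeCore_quotient_pPrimeCore ..)
  have hFp : IsPGroup p F := H1.isPGroup_pCore p _
  have hdis : ∀ q ∈ F, ¬ p ∣ orderOf q → q = 1 := by
    intro q hq hnd
    obtain ⟨k, hk⟩ := IsPGroup.iff_orderOf.mp hFp ⟨q, hq⟩
    rw [orderOf_mk] at hk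
    rcases k with _ | k
    · exact orderOf_eq_one_iff.mp (hk.trans (pow_zero p))
    · exact absurd (hk ▸ dvd_pow_self p (Nat.succ_ne_zero k)) hnd
  have key : f ⟨y, hyC⟩ ∈ centralizer (F : Set (↥C ⧸ Cfsg.pPrimeCore p ↥C)) := by
    refine mem_centralizer_iff.mpr fun q hq => ?_
    obtain ⟨⟨z, hzC⟩, rfl⟩ := QuotientGroup.mk'_surjective _ q
    have hzx : Commute z x := mem_centralizer_singleton_iff.mp hzC
    set c := z * y * z⁻¹ with hc
    have hcC : c ∈ C := mul_mem (mul_mem hzC hyC) (inv_mem hzC)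
    have hcx : Commute c x := mem_centralizer_singleton_iff.mp hcC
    have hco : orderOf c = orderOf y :=
      orderOf_injective (MulAut.conj z).toMonoidHom (MulAut.conj z).injective y
    have hcop : (orderOf x).Coprime (orderOf c) :=
      coprime_orders (hx.pow_eq hB) (by rw [hco]; exact hyp)
    set Dc := closure ({x * c, g * x * g⁻¹} : Set G) with hDc
    have hDct : Dc ≠ ⊤ := hB.gen _ _
    have hm : x * c ∈ Dc := subset_closure (Set.mem_insert _ _)
    have hxDc : x ∈ Dc := left_mem_of_mul_mem hcx.symm hcop hm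
    have hcDc : c ∈ Dc := right_mem_of_mul_mem hcx.symm hcop hm
    have hDD : D ≤ Dc := (closure_le _).mpr (by
      rintro w (rfl | rfl)
      · exact hxDc
      · exact subset_closure (Set.mem_insert_of_mem _ rfl))
    have hyT : y ∈ T p Dc :=
      hB.commutator_le hDct ((T_le p D).trans hDD) (not_dvd_card_T p D) (zpowers_le.mpr hxDc)
        (hB.inC_zpowers hx) ((zpowers_le.mpr hxD).trans (le_normalizer_T p D)) hy
    have hcN : c ∈ normalizer (T p Dc : Set G) := le_normalizer_T p Dc hcDc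
    have ht : c * y⁻¹ * c⁻¹ ∈ T p Dc := T_conj_mem hcDc (inv_mem hyT)
    have hpow : (c * y⁻¹) ^ orderOf c ∈ T p Dc := by
      have h := mul_pow_mem ht hcN (orderOf c)
      rwa [inv_mul_cancel_right, pow_orderOf_eq_one, inv_one, mul_one] at h
    have hto : ¬ p ∣ orderOf (c * y⁻¹) := by
      intro hd
      have h1 := orderOf_dvd_natCard (T p Dc) hpow
      have h2 : orderOf (c * y⁻¹) ∣ orderOf c * Nat.card (T p Dc) := by
        apply orderOf_dvd_of_pow_eq_one
        rw [pow_mul]
        exact orderOf_dvd_iff_pow_eq_one.mp h1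
      rcases (Fact.out : p.Prime).dvd_mul.mp (hd.trans h2) with h | h
      · exact hyp (hco ▸ h)
      · exact not_dvd_card_T p Dc h
    have hmem : f (⟨z, hzC⟩ * ⟨y, hyC⟩ * (⟨z, hzC⟩ : C)⁻¹ * (⟨y, hyC⟩ : C)⁻¹) ∈ F := by
      rw [map_mul, map_mul, map_mul, map_inv, map_inv, mul_assoc (f ⟨z, hzC⟩),
        mul_assoc (f ⟨z, hzC⟩)]
      exact mul_mem hq ((inferInstance : F.Normal).conj_mem _ (inv_mem hq) (f ⟨y, hyC⟩))
    have h1 := hdis _ hmem (fun hd => hto (by
      refine (hd.trans (orderOf_map_dvd f _)).trans (dvd_of_eq ?_)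
      rw [← Subgroup.orderOf_coe]
      rfl))
    rw [map_mul, map_mul, map_mul, map_inv, map_inv, mul_inv_eq_one, mul_inv_eq_iff_eq_mul] at h1
    exact h1
  have hyo : ¬ p ∣ orderOf (f ⟨y, hyC⟩) := fun hd => hyp (by
    refine (hd.trans (orderOf_map_dvd f _)).trans (dvd_of_eq ?_)
    rw [← Subgroup.orderOf_coe])
  exact ⟨⟨y, hyC⟩, (QuotientGroup.eq_one_iff _).mp (hdis _ (hCF key) hyo), rfl⟩

/-- Powers of an element of `E` of order `p` whose normaliser centralises it. -/
theorem Base.conj_pow_eq (hB : Base G p E) (hcard : Nat.card E = p)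
    (hN : normalizer (E : Set G) ≤ centralizer (E : Set G)) {x : G} (hx : x ∈ E) (hx1 : x ≠ 1)
    (g : G) : ∃ s ∈ ⁅T p (closure ({x, g * x * g⁻¹} : Set G)), zpowers x⁆,
      ∀ j : ℕ, g * x ^ j * g⁻¹ = s * x ^ j * s⁻¹ := by
  have hC : InC E x := inC_of_mem hx hx1
  obtain ⟨s, hs, v, -, hv, hxv, he⟩ := hB.pair hC (hC.conj g)
  refine ⟨s, hs, ?_⟩
  -- `x` and `v` lie in one conjugate of `E`
  have hQ : IsPGroup p (zpowers x ⊔ zpowers v : Subgroup G) := by
    refine (isPGroup_zpowers_of_pow (hC.pow_eq hB)).to_sup_of_normal_right'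
      (isPGroup_zpowers_of_pow (hv.pow_eq hB)) ?_
    refine zpowers_le.mpr (mem_normalizer_iff.mpr fun w => ?_)
    constructor
    · intro hw
      obtain ⟨i, rfl⟩ := mem_zpowers_iff.mp hw
      refine mem_zpowers_iff.mpr ⟨i, ?_⟩
      rw [(hxv.zpow_right i).eq, mul_inv_cancel_right]
    · intro hw
      obtain ⟨i, hi⟩ := mem_zpowers_iff.mp hw
      refine mem_zpowers_iff.mpr ⟨i, ?_⟩
      have : w = x⁻¹ * (x * w * x⁻¹) * x := by group
      rw [this, ← hi, mul_assoc, ← (hxv.zpow_right i).eq, inv_mul_cancel_left]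
  obtain ⟨h, hh⟩ := hB.inC_in_pgroup hQ
  have hxh := hh x (mem_sup_left (mem_zpowers x)) hC
  have hvh := hh v (mem_sup_right (mem_zpowers v)) hv
  have ho : orderOf x = p := orderOf_of_pow (hB.pow_eq hx) hx1
  have hE : zpowers x = E := eq_of_le_of_card_ge (zpowers_le.mpr hx)
    (by rw [hcard, Nat.card_zpowers, ho])
  have hEh : E = cj h E := eq_of_le_of_card_ge (hE.ge.trans (zpowers_le.mpr hxh)) (card_cj h E).le
  rw [← hEh] at hvh
  set n := s⁻¹ * g with hn
  have hnv : n * x * n⁻¹ = v := by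
    have e : v = s⁻¹ * (g * x * g⁻¹) * s := by rw [he]; group
    rw [e, hn]; group
  have hnN : n ∈ normalizer (E : Set G) := by
    rw [mem_normalizer_iff_map_conj_eq]
    refine eq_of_le_of_card_ge ?_ (card_cj n E).ge
    rintro _ ⟨w, hw, rfl⟩
    rw [← hE] at hw
    obtain ⟨i, rfl⟩ := mem_zpowers_iff.mp hw
    show n * x ^ i * n⁻¹ ∈ E
    rw [← conj_zpow, hnv]
    exact zpow_mem hvh i
  intro j
  have hnx : x ^ j * n = n * x ^ j := mem_centralizer_iff.mp (hN hnN) _ (pow_mem hx j)
  calc g * x ^ j * g⁻¹ = s * (n * x ^ j * n⁻¹) * s⁻¹ := by rw [hn]; group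
    _ = s * x ^ j * s⁻¹ := by rw [← hnx, mul_inv_cancel_right]

/-- The minimal counterexample has no such `E`. -/
theorem Base.false_of_central (hB : Base G p E) (hcard : Nat.card E = p)
    (hN : normalizer (E : Set G) ≤ centralizer (E : Set G)) : False := by
  classical
  haveI : Fintype G := Fintype.ofFinite G
  obtain ⟨M, hM⟩ := H20.exists_isPModular (Fact.out : p.Prime)
  haveI : M.IsPrime := hM.2.1.isPrime
  obtain ⟨x, hx, hx1⟩ : ∃ x ∈ E, x ≠ 1 := E.ne_bot_iff_exists_ne_one.mp hB.ne |>.elim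
    fun a ha => ⟨a, a.2, fun h => ha (Subtype.ext h)⟩
  have ho : orderOf x = p := orderOf_of_pow (hB.pow_eq hx) hx1
  have hxp : x ^ p = 1 := hB.pow_eq hx
  -- products of conjugates of powers of `x`
  have hprod : ∀ χ ∈ principalBlock M G, ∀ i j : ℕ, ¬ p ∣ (i + j) →
      (χ : G → ℂ) (x ^ (i + j)) * (χ : G → ℂ) 1 = (χ : G → ℂ) (x ^ i) * (χ : G → ℂ) (x ^ j) := by
    intro χ hχ i j hij
    refine H18.const_product_value χ (x ^ i) (x ^ j) _ fun a b => ?_
    obtain ⟨s, hs, hsj⟩ := hB.conj_pow_eq hcard hN hx hx1 (a⁻¹ * b)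
    set D := closure ({x, a⁻¹ * b * x * (a⁻¹ * b)⁻¹} : Set G) with hD
    set Y := ⁅T p D, zpowers x⁆ with hY
    have hxD : x ∈ D := subset_closure (Set.mem_insert _ _)
    have hYT : Y ≤ T p D :=
      H1.commutator_le_left_of_le_normalizer ((zpowers_le.mpr hxD).trans (le_normalizer_T p D))
    have hxN : ∀ l : ℕ, x ^ l ∈ normalizer (Y : Set G) := fun l =>
      H1.right_le_normalizer_commutator (pow_mem (mem_zpowers x) l)
    set w := x ^ i * (s * (x ^ j * s⁻¹ * (x ^ j)⁻¹)) * (x ^ i)⁻¹ with hw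
    have hwY : w ∈ Y := (mem_normalizer_iff.mp (hxN i) _).mp
      (mul_mem hs ((mem_normalizer_iff.mp (hxN j) _).mp (inv_mem hs)))
    have e1 : a * x ^ i * a⁻¹ * (b * x ^ j * b⁻¹) = a * (w * x ^ (i + j)) * a⁻¹ := by
      have e2 : b * x ^ j * b⁻¹ = a * (s * x ^ j * s⁻¹) * a⁻¹ := by rw [← hsj j]; group
      rw [e2, hw, pow_add]; group
    rw [e1, H12.irr_isClassFunction χ]
    set N := normalizer (Y : Set G) with hNdef
    haveI : (Y.subgroupOf N).Normal :=
      (normal_subgroupOf_iff_le_normalizer Subgroup.le_normalizer).mpr le_rfl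
    have hk1 : x ^ (i + j) ≠ 1 := fun h => hij (ho ▸ orderOf_dvd_of_pow_eq_one h)
    have hok : orderOf (x ^ (i + j)) = p :=
      orderOf_of_pow (by rw [← pow_mul, mul_comm, pow_mul, hxp, one_pow]) hk1
    obtain ⟨c, hc, y, hy, hyk, hcy⟩ := H16.coset_conj_to_centralizer (Y.subgroupOf N)
      ⟨x ^ (i + j), hxN _⟩ (by
        rw [← Subgroup.orderOf_coe, hok,
          Nat.card_congr (subgroupOfEquivOfLe Subgroup.le_normalizer).toEquiv]
        exact ((Fact.out : p.Prime).coprime_iff_not_dvd).mpr fun hd =>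
          not_dvd_card_T p D (hd.trans (card_dvd_of_le hYT)))
      ⟨w, Subgroup.le_normalizer hwY⟩ hwY
    have hcy' : (c : G) * ((y : G) * x ^ (i + j)) * (c : G)⁻¹ = w * x ^ (i + j) :=
      congrArg Subtype.val hcy
    rw [← hcy', H12.irr_isClassFunction χ]
    have hyk' : Commute (y : G) (x ^ (i + j)) := congrArg Subtype.val hyk
    have hxz : x ∈ zpowers (x ^ (i + j)) :=
      mem_of_zpow_mem hxp (pow_mem (mem_zpowers x) _) hk1 (mem_zpowers _)
    have hyx : Commute (y : G) x := by
      obtain ⟨l, hl⟩ := mem_zpowers_iff.mp hxz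
      exact hl ▸ hyk'.zpow_right l
    have hyθ : (y : G) ∈ theta p x :=
      hB.mem_theta_of_commute (inC_of_mem hx hx1) hy hyx
    have hcc : centralizer ({x ^ (i + j)} : Set G) = centralizer ({x} : Set G) := by
      ext z
      simp only [mem_centralizer_singleton_iff]
      constructor
      · intro h
        obtain ⟨l, hl⟩ := mem_zpowers_iff.mp hxz
        rw [← hl]
        exact ((show Commute z (x ^ (i + j)) from h).zpow_right l).eq
      · intro h
        exact ((show Commute z x from h).pow_right _).eq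
    rw [hyk'.eq]
    refine H20.principal_shift_core hM ⟨1, by rw [hok, pow_one]⟩ ?_ hχ
    show (y : G) ∈ theta p (x ^ (i + j))
    rw [theta, hcc]
    exact hyθ
  -- values at `x`
  have hzero : ∀ χ ∈ principalBlock M G, χ ≠ H12.oneIrr G → (χ : G → ℂ) x = 0 := by
    intro χ hχ hne
    by_contra hne0
    apply hne
    set d := (χ : G → ℂ) 1 with hd
    have hd0 : d ≠ 0 := H12.irr_apply_one_ne_zero χ
    set μ := (χ : G → ℂ) x / d with hμ
    have hpow : ∀ l : ℕ, 1 ≤ l → l < p → (χ : G → ℂ) (x ^ l) = d * μ ^ l := by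
      intro l hl1
      induction l, hl1 using Nat.le_induction with
      | base => intro _; rw [pow_one, pow_one, hμ, mul_div_cancel₀ _ hd0]
      | succ l hl ih =>
        intro hlp
        have h := hprod χ hχ l 1 (fun h => absurd (Nat.le_of_dvd (by omega) h) (by omega))
        rw [ih (by omega), pow_one] at h
        apply mul_right_cancel₀ hd0
        rw [h, pow_succ, hμ]
        field_simp
    have hp5 := hB.five
    have h2 := hprod χ hχ 2 (p - 1) (by
      rw [show 2 + (p - 1) = p + 1 by omega, Nat.dvd_add_self_left]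
      exact (Fact.out : p.Prime).not_dvd_one)
    rw [show 2 + (p - 1) = p + 1 by omega, pow_succ, hxp, one_mul, hpow 2 (by omega) (by omega),
      hpow (p - 1) (by omega) (by omega)] at h2
    have hμp : μ ^ p = 1 := by
      have hμ0 : μ ≠ 0 := div_ne_zero hne0 hd0
      apply mul_left_cancel₀ hμ0
      rw [mul_one, ← pow_succ', show p + 1 = 2 + (p - 1) by omega, pow_add]
      apply mul_left_cancel₀ (mul_ne_zero hd0 hd0)
      rw [show d * d * μ = (χ : G → ℂ) x * d by rw [hμ]; field_simp, h2]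
      ring
    have hnorm : ‖(χ : G → ℂ) x‖ = ‖d‖ := by
      rw [show (χ : G → ℂ) x = d * μ by rw [hμ, mul_div_cancel₀ _ hd0], norm_mul,
        H12.norm_eq_one_of_pow_eq_one (Fact.out : p.Prime).ne_zero hμp, mul_one]
    obtain ⟨n, ρ, hirr, hρ⟩ := χ.2
    rw [hd, ← hρ, Representation.char_one, Complex.norm_natCast] at hnorm
    obtain ⟨ω, hω⟩ := H12.exists_scalar_of_norm_eq ρ x hnorm
    have hker : MonoidHom.ker ρ = ⊤ := by
      haveI := hB.simple
      rcases (inferInstance : (MonoidHom.ker ρ).Normal).eq_bot_or_eq_top with h | h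
      · refine absurd ?_ hx1
        rw [← Subgroup.mem_bot, ← hB.toSetup.center_eq_bot, mem_center_iff]
        intro g
        apply (MonoidHom.ker_eq_bot_iff ρ).mp h
        rw [map_mul, map_mul, hω]
        refine LinearMap.ext fun v => ?_
        simp
      · exact h
    have hall : ∀ g : G, (χ : G → ℂ) g = d := by
      intro g
      rw [hd, ← hρ]
      show LinearMap.trace ℂ _ (ρ g) = LinearMap.trace ℂ _ (ρ 1)
      rw [MonoidHom.mem_ker.mp (hker ▸ mem_top g : g ∈ MonoidHom.ker ρ),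
        show ρ 1 = 1 from ρ.map_one]
    by_contra hne'
    have h0 := H12.classInner_irr_ne (G := G) hne'
    rw [H12.classInner_def] at h0
    simp only [hall, H12.oneIrr_apply, map_one, mul_one, Finset.sum_const, Finset.card_univ,
      nsmul_eq_mul, ← Nat.card_eq_fintype_card] at h0
    rw [← mul_assoc, inv_mul_cancel₀ H12.card_ne_zero', one_mul] at h0
    exact hd0 h0
  -- block orthogonality
  have hp1 : H20.pPart p x = x := H20.pPart_eq_self ⟨1, by rw [ho, pow_one]⟩
  have hp0 : H20.pPart p (1 : G) = 1 := H20.pPart_eq_self ⟨0, by rw [orderOf_one, pow_zero]⟩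
  have h := H20.block_orthogonality hM (g := x) (h := 1)
    (by rw [hp1, hp0, isConj_comm, isConj_one_right]; exact hx1)
    (H20.isPBlock_principalBlock (M := M) (G := G))
  have h1 : H12.oneIrr G ∈ principalBlock M G := H20.mem_blockOf_self (H12.oneIrr G)
  rw [finsum_mem_eq_sum_of_inter_support_eq (t := {H12.oneIrr G}) _ (by
    ext χ
    simp only [Set.mem_inter_iff, Function.mem_support, Finset.coe_singleton,
      Set.mem_singleton_iff]
    constructor
    · rintro ⟨hχ, hne⟩
      refine ⟨?_, hne⟩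
      by_contra h0
      exact hne (by rw [hzero χ hχ h0, zero_mul])
    · rintro ⟨rfl, hne⟩
      exact ⟨h1, hne⟩)] at h
  rw [Finset.sum_singleton, H12.oneIrr_apply, H12.oneIrr_apply, mul_one] at h
  exact one_ne_zero h

end H83.TwoGen
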