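import Cfsg.Agent.H83.TwoGenSol.Fmap
import Cfsg.Agent.H8.Coprime
import Cfsg.Agent.H68.ExtClosed.Basic

/-!
Tools for an auxiliary prime `q`.
-/

set_option autoImplicit false
set_option linter.style.haveILetI false
set_option linter.unusedSectionVars false

namespace H83.TwoGen

open Subgroup H82
open scoped commutatorElement

universe u

variable {G : Type u} [Group G] [Finite G] {q : ℕ} [Fact q.Prime]

theorem isPGroup_zpowers_of_pow_pow {g : G} {j : ℕ} (h : g ^ q ^ j = 1) :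
    IsPGroup q (zpowers g) := by
  intro ⟨x, hx⟩
  obtain ⟨i, rfl⟩ := mem_zpowers_iff.mp hx
  refine ⟨j, Subtype.ext ?_⟩
  simp only [SubmonoidClass.mk_pow, OneMemClass.coe_one]
  rw [← zpow_natCast, ← zpow_mul, mul_comm, zpow_mul, zpow_natCast, h, one_zpow]

theorem exists_pow_eq_one_of_mem {K : Subgroup G} (hK : IsPGroup q K) {g : G} (hg : g ∈ K) :
    ∃ j : ℕ, g ^ q ^ j = 1 := by
  obtain ⟨j, hj⟩ := hK ⟨g, hg⟩
  exact ⟨j, by simpa using congrArg Subtype.val hj⟩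

theorem isPGroup_sup_zpowers {K : Subgroup G} (hK : IsPGroup q K) {g : G} {j : ℕ}
    (hg : g ^ q ^ j = 1) (hgN : g ∈ normalizer (K : Set G)) : IsPGroup q ↥(K ⊔ zpowers g) :=
  hK.to_sup_of_normal_left' (isPGroup_zpowers_of_pow_pow hg) (zpowers_le.mpr hgN)

theorem card_le_of_sylowIn {P Q M : Subgroup G} (hP : SylowIn q P M) (hQ : IsPGroup q Q)
    (hQM : Q ≤ M) : Nat.card Q ≤ Nat.card P := by
  obtain ⟨R, hR, hQR⟩ := exists_sylowIn_ge hQ hQM
  refine (Subgroup.card_le_of_le hQR).trans (le_of_eq ?_)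
  rw [hR.card_eq, hP.card_eq]

theorem sylowIn_of_card_le {U0 U L : Subgroup G} (hU0 : SylowIn q U0 L) (hU : IsPGroup q U)
    (hUL : U ≤ L) (h : Nat.card U0 ≤ Nat.card U) : SylowIn q U L := by
  obtain ⟨R, hR, hUR⟩ := exists_sylowIn_ge hU hUL
  have e : U = R := by
    refine eq_of_le_of_card_ge hUR ?_
    rw [hR.card_eq, ← hU0.card_eq]
    exact h
  rwa [e]

/-- If `q` divides the index of `M`, a Sylow subgroup of `M` is not a Sylow subgroup of `G`. -/
theorem exists_normalizer_elt {K M : Subgroup G} (hK : SylowIn q K M) (hq : q ∣ M.index) :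
    ∃ g ∈ normalizer (K : Set G), g ∉ K ∧ ∃ j : ℕ, g ^ q ^ j = 1 := by
  obtain ⟨P, hP⟩ := hK.isPGroup.exists_le_sylow
  have hne : K < (P : Subgroup G) := lt_of_le_of_ne hP fun e =>
    P.not_dvd_index (e ▸ hq.trans (index_dvd_of_le hK.le))
  obtain ⟨-, g, hg, hgK⟩ := SetLike.lt_iff_le_and_exists.mp (exists_normalizer_gt P.isPGroup' hne)
  exact ⟨g, hg.2, hgK, exists_pow_eq_one_of_mem P.isPGroup' hg.1⟩

/-- The `q`-part of an element, as a power. -/
theorem exists_q_part_pow (l : G) :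
    ∃ a j : ℕ, (l ^ a) ^ q ^ j = 1 ∧
      ∀ {A : Type u} [Group A] (σ : A) (k : ℕ), σ ^ orderOf l = 1 → σ ^ q ^ k = 1 → σ ^ a = σ := by
  obtain ⟨j, m, hm, he⟩ := Nat.exists_eq_pow_mul_and_not_dvd (orderOf_pos l).ne' q
    (Fact.out : q.Prime).ne_one
  have hcop : (q ^ j).Coprime m :=
    Nat.Coprime.pow_left j (((Fact.out : q.Prime).coprime_iff_not_dvd).mpr hm)
  obtain ⟨a, ha1, ha0⟩ := exists_split_exponent hcop
  refine ⟨a, j, ?_, fun {A} _ σ k h1 h2 => ?_⟩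
  · rw [← pow_mul]
    obtain ⟨b, hb⟩ := Nat.modEq_zero_iff_dvd.mp ha0
    rw [hb, show m * b * q ^ j = orderOf l * b by rw [he]; ring, pow_mul, pow_orderOf_eq_one,
      one_pow]
  · have hd : orderOf σ ∣ q ^ j := by
      refine Nat.Coprime.dvd_of_dvd_mul_right (n := m) ?_ (he ▸ orderOf_dvd_of_pow_eq_one h1)
      exact Nat.Coprime.coprime_dvd_left (orderOf_dvd_of_pow_eq_one h2)
        (Nat.Coprime.pow_left k (((Fact.out : q.Prime).coprime_iff_not_dvd).mpr hm))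
    conv_rhs => rw [← pow_one σ]
    exact pow_eq_pow_iff_modEq.mpr (ha1.of_dvd hd)

variable {p : ℕ} [Fact p.Prime] {E : Subgroup G}

/-- The kernel of `act` in a subgroup, inside `G`. -/
noncomputable def Conn.ker (hC : Conn G p E) {L : Subgroup G} (hL : L ≠ ⊤) (hEL : E ≤ L) :
    Subgroup G :=
  (hC.actHom hL hEL).ker.map L.subtype

theorem Conn.mem_ker (hC : Conn G p E) {L : Subgroup G} (hL : L ≠ ⊤) (hEL : E ≤ L) {a : G} :
    a ∈ hC.ker hL hEL ↔ a ∈ L ∧ hC.act a = 1 := by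
  constructor
  · rintro ⟨b, hb, rfl⟩
    exact ⟨b.2, hb⟩
  · rintro ⟨ha, h⟩
    exact ⟨⟨a, ha⟩, h, rfl⟩

theorem Conn.ker_le (hC : Conn G p E) {L : Subgroup G} (hL : L ≠ ⊤) (hEL : E ≤ L) :
    hC.ker hL hEL ≤ L := map_subtype_le _

theorem Conn.E_le_ker (hC : Conn G p E) {L : Subgroup G} (hL : L ≠ ⊤) (hEL : E ≤ L) :
    E ≤ hC.ker hL hEL := fun _ he =>
  (hC.mem_ker hL hEL).mpr ⟨hEL he, hC.act_of_centralizer (hC.toBase.centralizer_le he)⟩

/-- `act = 1` in `L` means membership of `T L · C(E)`. -/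
theorem Conn.split_of_act_eq_one (hC : Conn G p E) {L : Subgroup G} (hL : L ≠ ⊤) (hEL : E ≤ L)
    {a : G} (ha : a ∈ L) (h : hC.act a = 1) :
    ∃ t ∈ T p L, ∃ n ∈ centralizer (E : Set G), n ∈ L ∧ a = t * n := by
  obtain ⟨t, ht, n, hn, hnL, e, hf⟩ := hC.exists_split_mem hL hEL ha
  exact ⟨t, ht, n, (phi_eq_one_iff hn).mp (hf.symm.trans h), hnL, e⟩

/-- An `E`-invariant Sylow `q`-subgroup of the kernel, `q ≠ p`. -/
theorem Conn.exists_inv_sylow_ker (hC : Conn G p E) (hqp : q ≠ p) {L : Subgroup G} (hL : L ≠ ⊤)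
    (hEL : E ≤ L) :
    ∃ U : Subgroup G, SylowIn q U (hC.ker hL hEL) ∧ E ≤ normalizer (U : Set G) := by
  have hTker : T p L ≤ hC.ker hL hEL := fun t ht =>
    (hC.mem_ker hL hEL).mpr ⟨T_le p L ht, hC.act_T hL hEL ht⟩
  obtain ⟨U0, hU0⟩ := H82.exists_sylowIn q (hC.ker hL hEL)
  set X := T p L ⊔ U0
  have hXk : X ≤ hC.ker hL hEL := sup_le hTker hU0.le
  have hXp : ¬ p ∣ Nat.card X := fun hd => by
    have h1 := hd.trans (H68.EC.card_sup_dvd (A := U0) (B := T p L)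
      ((hU0.le.trans (hC.ker_le hL hEL)).trans (le_normalizer_T p L)))
    rcases (Fact.out : p.Prime).dvd_mul.mp h1 with h | h
    · exact not_dvd_card_T p L h
    · obtain ⟨k, hk⟩ := hU0.isPGroup.exists_card_eq
      rw [hk] at h
      exact hqp ((Nat.prime_dvd_prime_iff_eq Fact.out Fact.out).mp
        ((Fact.out : p.Prime).dvd_of_dvd_pow h)).symm
  have hEX : E ≤ normalizer (X : Set G) := by
    intro e he
    refine mem_normalizer_of_map_le ?_
    rw [map_le_iff_le_comap]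
    refine sup_le (fun t ht => mem_sup_left (T_conj_mem (hEL he) ht)) fun u hu => ?_
    obtain ⟨huL, hu1⟩ := (hC.mem_ker hL hEL).mp (hU0.le hu)
    obtain ⟨t, ht, n, hn, -, rfl⟩ := hC.split_of_act_eq_one hL hEL huL hu1
    show e * (t * n) * e⁻¹ ∈ X
    have e1 : e * (t * n) * e⁻¹ = (e * t * e⁻¹ * t⁻¹) * (t * (e * n * e⁻¹)) := by group
    rw [e1, mem_centralizer_iff.mp hn e he, mul_inv_cancel_right]
    exact mul_mem (mem_sup_left (mul_mem (T_conj_mem (hEL he) ht) (inv_mem ht))) (mem_sup_right hu)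
  obtain ⟨U, hU, hEU⟩ := H8.exists_inv_sylowIn (q := q) hC.toBase.isPGroup hEX hXp
  refine ⟨U, sylowIn_of_card_le hU0 hU.isPGroup (hU.le.trans hXk) ?_, hEU⟩
  exact card_le_of_sylowIn hU hU0.isPGroup le_sup_right

end H83.TwoGen
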