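import Cfsg.Agent.H83.TwoGenSol.Basic
import Mathlib.GroupTheory.Transfer

/-!
Transfer into an abelian group from a subgroup of a simple group.
-/

set_option autoImplicit false
set_option linter.style.haveILetI false
set_option linter.unusedSectionVars false

namespace H83.TwoGen

open Subgroup MulAction

universe u

variable {G : Type u} [Group G] [Finite G]

/-- If `ψ` takes the value `a ^ l` on every conjugate of `m ^ l` lying in `M`, then `a` has order
dividing the index of `M`. -/
theorem Setup.pow_index_eq_one {p : ℕ} (hS : Setup G p) {A : Type*} [CommGroup A] {M : Subgroup G}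
    (ψ : ↥M →* A) (m : G) (a : A)
    (h : ∀ (l : ℕ) (w : G) (hw : w⁻¹ * m ^ l * w ∈ M), ψ ⟨_, hw⟩ = a ^ l) : a ^ M.index = 1 := by
  classical
  letI := Fintype.ofFinite G
  have h1 := hS.hom_eq_one (MonoidHom.transfer ψ) m
  rw [MonoidHom.transfer_eq_prod_quotient_orbitRel_zpowers_quot] at h1
  simp only [h] at h1
  rw [Finset.prod_pow_eq_pow_sum] at h1
  have hi := index_eq_sum_minimalPeriod M m
  rw [hi]
  exact h1

/-- A prime dividing the order of a proper subgroup's value group divides its index. -/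
theorem Setup.dvd_index {p q : ℕ} [Fact q.Prime] (hS : Setup G p) {A : Type*} [CommGroup A]
    {M : Subgroup G} (ψ : ↥M →* A) (m : G) (a : A) (ha : a ≠ 1) {k : ℕ} (hk : a ^ q ^ k = 1)
    (h : ∀ (l : ℕ) (w : G) (hw : w⁻¹ * m ^ l * w ∈ M), ψ ⟨_, hw⟩ = a ^ l) : q ∣ M.index := by
  by_contra hq
  refine ha ?_
  have h1 := hS.pow_index_eq_one ψ m a h
  have h2 : orderOf a ∣ Nat.gcd (q ^ k) M.index :=
    Nat.dvd_gcd (orderOf_dvd_of_pow_eq_one hk) (orderOf_dvd_of_pow_eq_one h1)
  have h3 : Nat.Coprime (q ^ k) M.index :=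
    Nat.Coprime.pow_left k (((Fact.out : q.Prime).coprime_iff_not_dvd).mpr hq)
  rw [h3.gcd_eq_one, Nat.dvd_one, orderOf_eq_one_iff] at h2
  exact h2

end H83.TwoGen
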