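import Cfsg.Agent.H83.TwoGenSol.Fmap
import Cfsg.Agent.H83.TwoGenSol.QTools
import Cfsg.Agent.H83.TwoGenSol.Transfer
import Mathlib.RingTheory.ZMod.UnitsCyclic

/-!
`E` of order `p` with a nontrivial automizer is impossible.
-/

set_option autoImplicit false
set_option linter.style.haveILetI false
set_option linter.unusedSectionVars false

namespace H83.TwoGen

open Subgroup H82
open scoped commutatorElement

universe u

variable {G : Type u} [Group G] [Finite G] {p : ℕ} [Fact p.Prime] {E : Subgroup G}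

theorem Base.zpowers_eq (hB : Base G p E) (hcard : Nat.card E = p) {e : G} (he : e ∈ E)
    (he1 : e ≠ 1) : zpowers e = E :=
  eq_of_le_of_card_ge (zpowers_le.mpr he)
    (by rw [Nat.card_zpowers, orderOf_of_pow (hB.pow_eq he) he1, hcard])

theorem Base.le_of_mem (hB : Base G p E) (hcard : Nat.card E = p) {e : G} (he : e ∈ E)
    (he1 : e ≠ 1) {L : Subgroup G} (h : e ∈ L) : E ≤ L :=
  (hB.zpowers_eq hcard he he1).ge.trans (zpowers_le.mpr h)

theorem Base.cj_le_of_mem' (hB : Base G p E) (hcard : Nat.card E = p) {g e : G} (he : e ∈ E)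
    (he1 : e ≠ 1) {L : Subgroup G} (h : g * e * g⁻¹ ∈ L) : cj g E ≤ L := by
  rw [← hB.zpowers_eq hcard he he1, cj, MonoidHom.map_zpowers, zpowers_le]
  exact h

theorem Base.centralizer_of_commute (hB : Base G p E) (hcard : Nat.card E = p) {c x : G}
    (hx : x ∈ E) (hx1 : x ≠ 1) (h : Commute c x) : c ∈ centralizer (E : Set G) := by
  refine mem_centralizer_iff.mpr fun e he => ?_
  rw [← hB.zpowers_eq hcard hx hx1] at he
  obtain ⟨i, rfl⟩ := mem_zpowers_iff.mp he
  exact (h.symm.zpow_left i).eq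

theorem Base.autEquiv (hB : Base G p E) (hcard : Nat.card E = p) :
    Nonempty (MulAut ↥E ≃* (ZMod p)ˣ) := by
  haveI : IsCyclic ↥E := isCyclic_of_prime_card hcard
  exact ⟨(IsCyclic.mulAutMulEquiv ↥E).trans (Units.mapEquiv (ZMod.ringEquivCongr hcard).toMulEquiv)⟩

theorem Base.aut_comm (hB : Base G p E) (hcard : Nat.card E = p) (σ τ : MulAut ↥E) :
    σ * τ = τ * σ := by
  obtain ⟨e⟩ := hB.autEquiv hcard
  exact e.injective (by rw [map_mul, map_mul, mul_comm])

/-- An automorphism in the image of `N(E)` of `q`-power order. -/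
def IsQAut (q : ℕ) (E : Subgroup G) (σ : MulAut ↥E) : Prop :=
  (∃ n ∈ normalizer (E : Set G), phi E n = σ) ∧ ∃ k : ℕ, σ ^ q ^ k = 1

variable (hC : Conn G p E) (hcard : Nat.card E = p)

include hC hcard

/-- Conjugates of `m ∈ N(E)` induce the same automorphism. -/
theorem Conn.act_conj_line {m : G} (hm : m ∈ normalizer (E : Set G)) (h : G) :
    hC.act (h * m * h⁻¹) = phi E m := by
  obtain ⟨x, hx, hx1⟩ : ∃ x ∈ E, x ≠ 1 := E.bot_or_exists_ne_one.resolve_left hC.ne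
  set L0 := E ⊔ cj h E with hL0def
  have hL0 : L0 ≠ ⊤ := by
    intro e
    obtain ⟨L, hL, h1, h2⟩ := hC.conn h
    exact hL (top_le_iff.mp (e ▸ (sup_le h1 h2 : L0 ≤ L)))
  obtain ⟨t, ht, n0, hn0, rfl⟩ := hC.toBase.exists_split hL0 le_sup_left (g := h) le_sup_right
  set m' := n0 * m * n0⁻¹
  have hm' : m' ∈ normalizer (E : Set G) := mul_mem (mul_mem hn0 hm) (inv_mem hn0)
  set L := closure ({x, t * m'} : Set G)
  have hL : L ≠ ⊤ := hC.gen _ _
  have hxL : x ∈ L := subset_closure (Set.mem_insert _ _)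
  have htm : t * m' ∈ L := subset_closure (Set.mem_insert_of_mem _ rfl)
  have hEL : E ≤ L := hC.toBase.le_of_mem hcard hx hx1 hxL
  have hct : cj t E ≤ L := by
    have h1 : cj (t * m') E ≤ L := cj_le_of_mem htm hEL
    rwa [← cj_cj, cj_eq_of_mem hm'] at h1
  have h0L : L0 ≤ L := by
    refine sup_le hEL ?_
    rw [← cj_cj, cj_eq_of_mem hn0]
    exact hct
  have htL : t ∈ L := h0L (T_le p L0 ht)
  have hm'L : m' ∈ L := by
    have := mul_mem (inv_mem htL) htm
    rwa [inv_mul_cancel_left] at this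
  rw [show t * n0 * m * (t * n0)⁻¹ = t * m' * t⁻¹ by simp only [m']; group, hC.act_conj hL hEL htL hm'L,
    hC.act_normalizer hm', phi_mul (mul_mem hn0 hm) (inv_mem hn0), phi_mul hn0 hm, phi_inv hn0,
    hC.toBase.aut_comm hcard (phi E n0) (phi E m), mul_inv_cancel_right,
    hC.toBase.aut_comm hcard (hC.act t), mul_inv_cancel_right]

/-- Every proper subgroup containing `E` has index divisible by `q`. -/
theorem Conn.dvd_index_line {q : ℕ} [Fact q.Prime] {m : G} (hm : m ∈ normalizer (E : Set G))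
    (hm1 : phi E m ≠ 1) (hmq : phi E m ^ q = 1) {M : Subgroup G} (hM : M ≠ ⊤) (hEM : E ≤ M) :
    q ∣ M.index := by
  obtain ⟨e⟩ := hC.toBase.autEquiv hcard
  refine hC.toSetup.dvd_index (q := q) (e.toMonoidHom.comp (hC.actHom hM hEM)) m (e (phi E m))
    (fun h => hm1 (e.injective (h.trans (map_one e).symm))) (k := 1)
    (by rw [pow_one, ← map_pow, hmq, map_one]) fun l w hw => ?_
  have h1 := hC.act_conj_line hcard (pow_mem hm l) w⁻¹
  rw [inv_inv] at h1
  show e (hC.act (w⁻¹ * m ^ l * w)) = e (phi E m) ^ l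
  rw [h1, ← map_pow]
  congr 1
  rw [← hC.act_normalizer (pow_mem hm l), hC.act_pow hC.toBase.normalizer_ne_top le_normalizer hm,
    hC.act_normalizer hm]

/-- A Sylow subgroup reaches every `q`-automorphism induced inside its group. -/
theorem Conn.exists_mem_sylow_act {q : ℕ} [Fact q.Prime] {L P : Subgroup G} (hL : L ≠ ⊤)
    (hEL : E ≤ L) (hP : SylowIn q P L) {l : G} (hl : l ∈ L) {k : ℕ}
    (hk : hC.act l ^ q ^ k = 1) : ∃ c ∈ P, hC.act c = hC.act l := by
  obtain ⟨a, j, hj, ha⟩ := exists_q_part_pow (q := q) l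
  have h1 : hC.act (l ^ a) = hC.act l := by
    rw [hC.act_pow hL hEL hl]
    refine ha _ k ?_ hk
    rw [← hC.act_pow hL hEL hl, pow_orderOf_eq_one, hC.act_one]
  obtain ⟨m, hm, hle⟩ := hP.exists_conj_le (isPGroup_zpowers_of_pow_pow hj)
    (zpowers_le.mpr (pow_mem hl a))
  refine ⟨m * l ^ a * m⁻¹, hle (mem_cj (mem_zpowers _)), ?_⟩
  rw [hC.act_conj hL hEL hm (pow_mem hl a), hC.toBase.aut_comm hcard (hC.act m),
    mul_inv_cancel_right, h1]

/-- Rank one with nontrivial automizer is impossible. -/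
theorem Conn.false_of_line {n : G} (hn : n ∈ normalizer (E : Set G)) (hn1 : phi E n ≠ 1) :
    False := by
  classical
  have hB := hC.toBase
  obtain ⟨x, hx, hx1⟩ : ∃ x ∈ E, x ≠ 1 := E.bot_or_exists_ne_one.resolve_left hC.ne
  have hN := hB.normalizer_ne_top
  -- a prime `q` and an element of order `q` in the automizer
  have ho : orderOf (phi E n) ≠ 1 := fun h => hn1 (orderOf_eq_one_iff.mp h)
  obtain ⟨q, hq, hqd⟩ := Nat.exists_prime_and_dvd ho
  haveI : Fact q.Prime := ⟨hq⟩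
  obtain ⟨b, hb⟩ := hqd
  obtain ⟨e⟩ := hB.autEquiv hcard
  have hqp : q ≠ p := by
    have h1 : orderOf (e (phi E n)) ∣ Nat.card (ZMod p)ˣ := orderOf_dvd_natCard _
    rw [MulEquiv.orderOf_eq, Nat.card_eq_fintype_card, ZMod.card_units p] at h1
    have h2 := Nat.le_of_dvd (show 0 < p - 1 by have := (Fact.out : p.Prime).two_le; omega)
      ((Dvd.intro b hb.symm).trans h1)
    have h3 := (Fact.out : p.Prime).two_le
    omega
  have hfin : IsOfFinOrder (phi E n) := isOfFinOrder_of_finite _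
  set m := n ^ b with hmdef
  have hm : m ∈ normalizer (E : Set G) := pow_mem hn b
  have hphim : phi E m = phi E n ^ b := by
    rw [← hC.act_normalizer hm, hC.act_pow hN le_normalizer hn, hC.act_normalizer hn]
  have hbpos : 0 < b := by
    rcases Nat.eq_zero_or_pos b with h | h
    · rw [h, mul_zero] at hb; exact absurd hb hfin.orderOf_pos.ne'
    · exact h
  have hmq : phi E m ^ q = 1 := by rw [hphim, ← pow_mul, mul_comm, ← hb, pow_orderOf_eq_one]
  have hm1 : phi E m ≠ 1 := by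
    intro h
    rw [hphim] at h
    have := Nat.le_of_dvd hbpos (orderOf_dvd_of_pow_eq_one h)
    have := hq.two_le
    nlinarith
  have hindex := fun {M : Subgroup G} (hM : M ≠ ⊤) (hEM : E ≤ M) =>
    hC.dvd_index_line hcard hm hm1 hmq hM hEM
  -- a maximal subgroup in the family of those reaching every `q`-automorphism
  obtain ⟨M, ⟨hM, hEM, hMall⟩, hmax⟩ := Set.Finite.exists_maximalFor
    (fun L : Subgroup G => (Nat.card L).factorization q)
    {L : Subgroup G | L ≠ ⊤ ∧ E ≤ L ∧ ∀ σ, IsQAut q E σ → ∃ l ∈ L, hC.act l = σ}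
    (Set.toFinite _) ⟨normalizer (E : Set G), hN, le_normalizer, fun σ ⟨⟨a, ha, hσ⟩, _⟩ =>
      ⟨a, ha, (hC.act_normalizer ha).trans hσ⟩⟩
  obtain ⟨U, hU, hEU⟩ := hC.exists_inv_sylow_ker hqp hM hEM
  have hUM : U ≤ M := hU.le.trans (hC.ker_le hM hEM)
  have hUact : ∀ u ∈ U, hC.act u = 1 := fun u hu => ((hC.mem_ker hM hEM).mp (hU.le hu)).2
  -- a Sylow subgroup of `M` above `U` normalises `U`
  obtain ⟨K1, hK1, hUK1⟩ := exists_sylowIn_ge hU.isPGroup hUM
  have hcap : ∀ {S : Subgroup G}, IsPGroup q S → S ≤ M → U ≤ S →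
      ∀ s ∈ S, hC.act s = 1 → s ∈ U := by
    intro S hS hSM hUS s hs hs1
    have e : S ⊓ hC.ker hM hEM = U :=
      hU.eq_of_le (hS.to_le inf_le_left) inf_le_right (le_inf hUS hU.le)
    exact e ▸ ⟨hs, (hC.mem_ker hM hEM).mpr ⟨hSM hs, hs1⟩⟩
  have hK1U : K1 ≤ normalizer (U : Set G) := by
    intro k hk
    refine mem_normalizer_of_map_le ?_
    rintro _ ⟨u, hu, rfl⟩
    refine hcap hK1.isPGroup hK1.le hUK1 _ (mul_mem (mul_mem hk (hUK1 hu)) (inv_mem hk)) ?_
    show hC.act (k * u * k⁻¹) = 1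
    rw [hC.act_conj hM hEM (hK1.le hk) (hUM hu), hUact u hu, mul_one, mul_inv_cancel]
  -- `J` still reaches every `q`-automorphism
  set J := M ⊓ normalizer (U : Set G) ⊓ normalizer (E : Set G) with hJdef
  have hEJ : E ≤ J := le_inf (le_inf hEM hEU) le_normalizer
  have hJ : J ≠ ⊤ := fun h => hM (top_le_iff.mp (h ▸ inf_le_left.trans inf_le_left))
  have hJact : ∀ k ∈ K1, ∃ j ∈ J, hC.act j = hC.act k := by
    intro k hk
    obtain ⟨t, -, j, hj, hjL, -, hf⟩ := hC.exists_split_mem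
      (fun h => hM (top_le_iff.mp (h ▸ inf_le_left)) : M ⊓ normalizer (U : Set G) ≠ ⊤)
      (le_inf hEM hEU) (g := k) ⟨hK1.le hk, hK1U hk⟩
    exact ⟨j, ⟨hjL, hj⟩, by rw [hf, hC.act_normalizer hj]⟩
  obtain ⟨Kx, hKx⟩ := H82.exists_sylowIn q J
  have hKxN : Kx ≤ normalizer (E : Set G) := hKx.le.trans inf_le_right
  have hKxU : Kx ≤ normalizer (U : Set G) := hKx.le.trans (inf_le_left.trans inf_le_right)
  have hKxM : Kx ≤ M := hKx.le.trans (inf_le_left.trans inf_le_left)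
  have hall : ∀ σ, IsQAut q E σ → ∃ c ∈ Kx, hC.act c = σ := by
    intro σ hσ
    obtain ⟨l, hl, rfl⟩ := hMall σ hσ
    obtain ⟨-, j0, hj0⟩ := hσ
    obtain ⟨k, hk, hkl⟩ := hC.exists_mem_sylow_act hcard hM hEM hK1 hl hj0
    obtain ⟨j, hj, hjk⟩ := hJact k hk
    obtain ⟨c, hc, hcj⟩ := hC.exists_mem_sylow_act hcard hJ hEJ hKx hj (k := j0)
      (by rw [hjk, hkl]; exact hj0)
    exact ⟨c, hc, by rw [hcj, hjk, hkl]⟩
  have hqaut : ∀ {L : Subgroup G}, L ≠ ⊤ → E ≤ L → ∀ {a : G}, a ∈ L → ∀ {j : ℕ}, a ^ q ^ j = 1 →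
      IsQAut q E (hC.act a) := by
    intro L hL hEL a ha j hj
    refine ⟨?_, j, by rw [← hC.act_pow hL hEL ha, hj, hC.act_one]⟩
    obtain ⟨n', hn', h, -⟩ := hC.act_mem_range a
    exact ⟨n', hn', h.symm⟩
  -- `K = U Kx` is a Sylow subgroup of `M`
  set K := U ⊔ Kx with hKdef
  have hKq : IsPGroup q K := hU.isPGroup.to_sup_of_normal_left' hKx.isPGroup hKxU
  obtain ⟨S, hS, hKS⟩ := exists_sylowIn_ge hKq (sup_le hUM hKxM)
  have hSK : S = K := by
    refine le_antisymm (fun s hs => ?_) hKS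
    obtain ⟨j, hj⟩ := exists_pow_eq_one_of_mem hS.isPGroup hs
    obtain ⟨c, hc, hcs⟩ := hall _ (hqaut hM hEM (hS.le hs) hj)
    have hcS : c ∈ S := hKS (mem_sup_right hc)
    have h1 : c⁻¹ * s ∈ U := by
      refine hcap hS.isPGroup hS.le (le_sup_left.trans hKS) _ (mul_mem (inv_mem hcS) hs) ?_
      rw [hC.act_mul hM hEM (inv_mem (hKxM hc)) (hS.le hs), hC.act_inv hM hEM (hKxM hc), hcs,
        inv_mul_cancel]
    have := mul_mem (mem_sup_right hc : c ∈ K) (mem_sup_left h1 : c⁻¹ * s ∈ K)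
    rwa [mul_inv_cancel_left] at this
  rw [hSK] at hS
  have hKU : K ≤ normalizer (U : Set G) := sup_le le_normalizer hKxU
  have hKcap : ∀ k ∈ K, hC.act k = 1 → k ∈ U := hcap hKq hS.le le_sup_left
  -- the elements outside `K` normalising it
  obtain ⟨g0, hg0N, hg0K, j0, hg0j⟩ := exists_normalizer_elt hS (hindex hM hEM)
  have hbig : ∀ {L : Subgroup G}, L ≠ ⊤ → E ≤ L → K ≤ L → ∀ {g : G}, g ∈ L →
      g ∈ normalizer (K : Set G) → g ∉ K → ∀ {j : ℕ}, g ^ q ^ j = 1 → False := by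
    intro L hL hEL hKL g hg hgN hgK j hgj
    have hQ := isPGroup_sup_zpowers hKq hgj hgN
    obtain ⟨R, hR, hQR⟩ := exists_sylowIn_ge hQ (sup_le hKL (zpowers_le.mpr hg))
    have hlt : Nat.card K < Nat.card R := by
      refine lt_of_le_of_ne (Subgroup.card_le_of_le (le_sup_left.trans hQR)) fun he => hgK ?_
      have := eq_of_le_of_card_ge (le_sup_left.trans hQR) he.ge
      exact this ▸ hQR (mem_sup_right (mem_zpowers g))
    rw [hS.card_eq, hR.card_eq] at hlt
    have h1 : (Nat.card M).factorization q < (Nat.card L).factorization q :=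
      (Nat.pow_lt_pow_iff_right hq.one_lt).mp hlt
    have h2 : (Nat.card L).factorization q ≤ (Nat.card M).factorization q :=
      hmax (j := L) ⟨hL, hEL, fun σ hσ => (hall σ hσ).imp fun c hc =>
        ⟨hKL (mem_sup_right hc.1), hc.2⟩⟩ h1.le
    omega
  -- no such element meets `U` in a proper subgroup containing `E`
  have hMAX : ∀ {g : G}, g ∈ normalizer (K : Set G) → g ∉ K → ∀ {j : ℕ}, g ^ q ^ j = 1 →
      ∀ L : Subgroup G, L ≠ ⊤ → E ≤ L → g ∈ L → U ⊓ L = ⊥ := by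
    intro g hgN hgK j hgj L hL hEL hgL
    by_contra hne
    obtain ⟨L', ⟨hL', hEL', hgL', hne'⟩, hLmax⟩ := Set.Finite.exists_maximalFor
      (fun L : Subgroup G => Nat.card ↥(K ⊓ L))
      {L : Subgroup G | L ≠ ⊤ ∧ E ≤ L ∧ g ∈ L ∧ U ⊓ L ≠ ⊥} (Set.toFinite _)
      ⟨L, hL, hEL, hgL, hne⟩
    by_cases hKL : K ≤ L'
    · exact hbig hL' hEL' hKL hgL' hgN hgK hgj
    set W := U ⊓ L'
    set L2 := normalizer (W : Set G)
    have hL2 : L2 ≠ ⊤ := hC.toSetup.normalizer_ne_top hne'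
      (fun h => hL' (top_le_iff.mp (h ▸ inf_le_right)))
    have hgW : g ∈ L2 := by
      refine mem_normalizer_of_map_le ?_
      rintro _ ⟨u, ⟨huU, huL⟩, rfl⟩
      have hmem : g * u * g⁻¹ ∈ K := (mem_normalizer_iff.mp hgN u).mp (mem_sup_left huU)
      refine Subgroup.mem_inf.mpr ⟨hKcap _ hmem ?_, mul_mem (mul_mem hgL' huL) (inv_mem hgL')⟩
      show hC.act (g * u * g⁻¹) = 1
      rw [hC.act_conj hL' hEL' hgL' huL, hUact u huU, mul_one, mul_inv_cancel]
    have hEW : E ≤ L2 := H8.le_normalizer_inf hEU (hEL'.trans le_normalizer)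
    have hNW : K ⊓ normalizer ((K ⊓ L' : Subgroup G) : Set G) ≤ L2 := by
      intro k hk
      refine mem_normalizer_of_map_le ?_
      rintro _ ⟨u, ⟨huU, huL⟩, rfl⟩
      refine ⟨(mem_normalizer_iff.mp (hKU hk.1) u).mp huU, ?_⟩
      exact ((mem_normalizer_iff.mp hk.2 u).mp ⟨mem_sup_left huU, huL⟩).2
    have hlt : K ⊓ L' < K := lt_of_le_of_ne inf_le_left fun h => hKL (inf_eq_left.mp h)
    have hlt2 := exists_normalizer_gt hKq hlt
    have hW2 : U ⊓ L2 ≠ ⊥ := fun h => hne' (le_bot_iff.mp (h ▸ le_inf inf_le_left le_normalizer))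
    have hcardlt : Nat.card ↥(K ⊓ L') < Nat.card ↥(K ⊓ L2) :=
      lt_of_lt_of_le
        (lt_of_le_of_ne (Subgroup.card_le_of_le hlt2.le)
          fun he => hlt2.ne (eq_of_le_of_card_ge hlt2.le he.ge))
        (Subgroup.card_le_of_le (le_inf inf_le_left hNW))
    have : Nat.card ↥(K ⊓ L2) ≤ Nat.card ↥(K ⊓ L') :=
      hLmax (j := L2) ⟨hL2, hEW, hgW, hW2⟩ hcardlt.le
    omega
  have hUq : ∀ u ∈ U, (orderOf x).Coprime (orderOf u) := fun u hu => by
    obtain ⟨j, hj⟩ := exists_pow_eq_one_of_mem hU.isPGroup hu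
    refine coprime_orders (hB.pow_eq hx) fun hd => hqp ?_
    exact ((Nat.prime_dvd_prime_iff_eq Fact.out Fact.out).mp
      ((Fact.out : p.Prime).dvd_of_dvd_pow (hd.trans (orderOf_dvd_of_pow_eq_one hj)))).symm
  have hEof : ∀ {L : Subgroup G}, x ∈ L → E ≤ L := fun h => hB.le_of_mem hcard hx hx1 h
  have hCU : ∀ u ∈ U, Commute u x → u = 1 := by
    intro u hu hux
    have hxu : x * u ∈ closure ({x * u, g0} : Set G) := subset_closure (Set.mem_insert _ _)
    have huL := right_mem_of_mul_mem hux.symm (hUq u hu) hxu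
    have h1 := hMAX hg0N hg0K hg0j _ (hC.gen _ _)
      (hEof (left_mem_of_mul_mem hux.symm (hUq u hu) hxu))
      (subset_closure (Set.mem_insert_of_mem _ rfl))
    exact Subgroup.mem_bot.mp (h1 ▸ ⟨hu, huL⟩)
  have hinj : ∀ c ∈ Kx, hC.act c = 1 → c = 1 := by
    intro c hc h1
    refine hCU c (hKcap c (mem_sup_right hc) h1) ?_
    rw [hC.act_normalizer (hKxN hc), phi_eq_one_iff (hKxN hc)] at h1
    exact (mem_centralizer_iff.mp h1 x hx).symm
  have hKxcomm : ∀ a ∈ Kx, ∀ c ∈ Kx, a * c = c * a := by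
    intro a ha c hc
    have h := hinj (a * c * a⁻¹ * c⁻¹)
      (mul_mem (mul_mem (mul_mem ha hc) (inv_mem ha)) (inv_mem hc)) ?_
    · rwa [mul_inv_eq_one, mul_inv_eq_iff_eq_mul] at h
    · rw [hC.act_mul hN le_normalizer (mul_mem (mul_mem (hKxN ha) (hKxN hc)) (inv_mem (hKxN ha)))
        (inv_mem (hKxN hc)), hC.act_conj hN le_normalizer (hKxN ha) (hKxN hc),
        hC.act_inv hN le_normalizer (hKxN hc), hB.aut_comm hcard (hC.act a), mul_inv_cancel_right,
        mul_inv_cancel]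
  -- elements with trivial automorphism
  have hSLOT : ∀ {g : G}, g ∈ normalizer (K : Set G) → g ∉ K → ∀ {j : ℕ}, g ^ q ^ j = 1 →
      hC.act g = 1 → ∀ c ∈ Kx, g * c * g⁻¹ = c ∧
        ∃ L : Subgroup G, L ≠ ⊤ ∧ E ≤ L ∧ g ∈ L ∧ c ∈ L := by
    intro g hgN hgK j hgj hg1 c hc
    set L0 := closure ({x, g} : Set G)
    have hL0 : L0 ≠ ⊤ := hC.gen _ _
    have hgL0 : g ∈ L0 := subset_closure (Set.mem_insert_of_mem _ rfl)
    have hEL0 : E ≤ L0 := hEof (subset_closure (Set.mem_insert _ _))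
    set D0 := E ⊔ cj g E
    have hD0L0 : D0 ≤ L0 := sup_le hEL0 (cj_le_of_mem hgL0 hEL0)
    have hD0 : D0 ≠ ⊤ := fun h => hL0 (top_le_iff.mp (h ▸ hD0L0))
    obtain ⟨t, ht, n1, hn1, hgeq⟩ := hB.exists_split hD0 le_sup_left (g := g) le_sup_right
    have hn1C : n1 ∈ centralizer (E : Set G) :=
      (phi_eq_one_iff hn1).mp ((hC.act_eq hD0 le_sup_left ht hn1 hgeq).symm.trans hg1)
    have hED0 : E ≤ normalizer (T p D0 : Set G) := le_sup_left.trans (le_normalizer_T p D0)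
    obtain ⟨a, ha, b', -, hb', htab⟩ := exists_decomp hB.isPGroup hED0 (not_dvd_card_T p D0) ht
    have haD0 : a ∈ D0 := T_le p D0 (H1.commutator_le_left_of_le_normalizer hED0 ha)
    have haT : a ∈ T p L0 := hB.commutator_le hL0 ((T_le p D0).trans hD0L0) (not_dvd_card_T p D0)
      hEL0 hB.inC_self hED0 ha
    set d := a⁻¹ * g with hd
    have hdC : d ∈ centralizer (E : Set G) := by
      rw [hd, hgeq, htab, mul_assoc a, inv_mul_cancel_left]
      exact mul_mem hb' hn1C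
    have hdx : Commute x d := mem_centralizer_iff.mp hdC x hx
    have hdp : ¬ p ∣ orderOf d := by
      refine not_dvd_orderOf_of_mem (K := T p L0 ⊔ zpowers g) (fun hd' => ?_)
        (mul_mem (mem_sup_left (inv_mem haT)) (mem_sup_right (mem_zpowers g)))
      have h1 := hd'.trans (H68.EC.card_sup_dvd (A := zpowers g) (B := T p L0)
        ((zpowers_le.mpr hgL0).trans (le_normalizer_T p L0)))
      rcases (Fact.out : p.Prime).dvd_mul.mp h1 with h | h
      · exact not_dvd_card_T p L0 h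
      · rw [Nat.card_zpowers] at h
        exact hqp ((Nat.prime_dvd_prime_iff_eq Fact.out Fact.out).mp
          ((Fact.out : p.Prime).dvd_of_dvd_pow (h.trans (orderOf_dvd_of_pow_eq_one hgj)))).symm
    set L := closure ({x * d, a * c} : Set G)
    have hL : L ≠ ⊤ := hC.gen _ _
    have hxd : x * d ∈ L := subset_closure (Set.mem_insert _ _)
    have hac : a * c ∈ L := subset_closure (Set.mem_insert_of_mem _ rfl)
    have hxL := left_mem_of_mul_mem hdx (coprime_orders (hB.pow_eq hx) hdp) hxd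
    have hdL := right_mem_of_mul_mem hdx (coprime_orders (hB.pow_eq hx) hdp) hxd
    have hEL := hEof hxL
    have hcN := cj_eq_of_mem (hKxN hc)
    have hga : cj g E = cj a E := by
      rw [show g = a * d by rw [hd]; group, ← cj_cj,
        cj_eq_of_mem (centralizer_le_normalizer _ hdC)]
    have hD0L : D0 ≤ L := by
      refine sup_le hEL ?_
      rw [hga]
      have h1 : cj (a * c) E ≤ L := cj_le_of_mem hac hEL
      rwa [← cj_cj, hcN] at h1
    have haL : a ∈ L := hD0L haD0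
    have hcL : c ∈ L := by
      have := mul_mem (inv_mem haL) hac
      rwa [inv_mul_cancel_left] at this
    have hgL : g ∈ L := by
      have := mul_mem haL hdL
      rwa [hd, mul_inv_cancel_left] at this
    refine ⟨?_, L, hL, hEL, hgL, hcL⟩
    have hUL := hMAX hgN hgK hgj L hL hEL hgL
    have hmemK : g * c * g⁻¹ * c⁻¹ ∈ K :=
      mul_mem ((mem_normalizer_iff.mp hgN c).mp (mem_sup_right hc)) (inv_mem (mem_sup_right hc))
    have hact : hC.act (g * c * g⁻¹ * c⁻¹) = 1 := by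
      rw [hC.act_mul hL hEL (mul_mem (mul_mem hgL hcL) (inv_mem hgL)) (inv_mem hcL),
        hC.act_conj hL hEL hgL hcL, hC.act_inv hL hEL hcL, hg1, one_mul, inv_one, mul_one,
        mul_inv_cancel]
    have h5 : g * c * g⁻¹ * c⁻¹ ∈ U ⊓ L := Subgroup.mem_inf.mpr ⟨hKcap _ hmemK hact,
      mul_mem (mul_mem (mul_mem hgL hcL) (inv_mem hgL)) (inv_mem hcL)⟩
    rw [hUL] at h5
    have := Subgroup.mem_bot.mp h5
    exact mul_inv_eq_one.mp this
  -- every outside element centralises `Kx`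
  have hcent : ∀ {g : G}, g ∈ normalizer (K : Set G) → g ∉ K → ∀ {j : ℕ}, g ^ q ^ j = 1 →
      ∃ k ∈ Kx, hC.act (g * k⁻¹) = 1 ∧ g * k⁻¹ ∈ normalizer (K : Set G) ∧ g * k⁻¹ ∉ K ∧
        (∃ i : ℕ, (g * k⁻¹) ^ q ^ i = 1) ∧ ∀ c ∈ Kx, g * c * g⁻¹ = c := by
    intro g hgN hgK j hgj
    obtain ⟨k, hk, hkg⟩ := hall _ (hqaut (hC.gen x g) (hEof (subset_closure (Set.mem_insert _ _)))
      (subset_closure (Set.mem_insert_of_mem _ rfl)) hgj)
    have h1 : hC.act (g * k⁻¹) = 1 := by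
      rw [hC.act_mul_normalizer g (inv_mem (hKxN hk)), phi_inv (hKxN hk),
        ← hC.act_normalizer (hKxN hk), hkg, mul_inv_cancel]
    have hkK : k ∈ K := mem_sup_right hk
    have hN' : g * k⁻¹ ∈ normalizer (K : Set G) := mul_mem hgN (le_normalizer (inv_mem hkK))
    have hK' : g * k⁻¹ ∉ K := fun h => hgK (by simpa using mul_mem h hkK)
    obtain ⟨i, hi⟩ := exists_pow_eq_one_of_mem (isPGroup_sup_zpowers hKq hgj hgN)
      (mul_mem (mem_sup_right (mem_zpowers g)) (mem_sup_left (inv_mem hkK)) :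
        g * k⁻¹ ∈ K ⊔ zpowers g)
    refine ⟨k, hk, h1, hN', hK', ⟨i, hi⟩, fun c hc => ?_⟩
    obtain ⟨h2, -⟩ := hSLOT hN' hK' hi h1 c hc
    have h3 : k⁻¹ * c * k = c := by rw [mul_assoc, hKxcomm c hc k hk, inv_mul_cancel_left]
    rwa [show g * k⁻¹ * c * (g * k⁻¹)⁻¹ = g * (k⁻¹ * c * k) * g⁻¹ by group, h3] at h2
  obtain ⟨k0, -, hk01, hk0N, hk0K, ⟨i0, hi0⟩, hg0c⟩ := hcent hg0N hg0K hg0j
  have hUc : ∀ u ∈ U, ∀ c ∈ Kx, u * c * u⁻¹ = c := by
    intro u hu c hc
    have huK : u ∈ K := mem_sup_left hu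
    obtain ⟨i, hi⟩ := exists_pow_eq_one_of_mem (isPGroup_sup_zpowers hKq hg0j hg0N)
      (mul_mem (mem_sup_right (mem_zpowers g0)) (mem_sup_left huK) : g0 * u ∈ K ⊔ zpowers g0)
    obtain ⟨-, -, -, -, -, -, h⟩ := hcent (mul_mem hg0N (le_normalizer huK))
      (fun h => hg0K (by simpa using mul_mem h (inv_mem huK))) hi
    have h1 : g0 * (u * c * u⁻¹) * g0⁻¹ = g0 * c * g0⁻¹ := by
      rw [show g0 * (u * c * u⁻¹) * g0⁻¹ = g0 * u * c * (g0 * u)⁻¹ by group, h c hc, hg0c c hc]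
    exact mul_left_cancel (mul_right_cancel h1)
  -- hence `U = 1`
  obtain ⟨c1, hc1, hc1m⟩ := hall (phi E m) ⟨⟨m, hm, rfl⟩, 1, by rw [pow_one]; exact hmq⟩
  have hU1 : ∀ u ∈ U, u = 1 := by
    intro u hu
    refine hCU u hu ?_
    have hu' : x * u * x⁻¹ ∈ U := (mem_normalizer_iff.mp (hEU hx) u).mp hu
    have hcomm : ∀ w ∈ U, c1 * w * c1⁻¹ = w := fun w hw =>
      mul_inv_eq_iff_eq_mul.mpr (mul_inv_eq_iff_eq_mul.mp (hUc w hw c1 hc1)).symm
    set y := c1 * x * c1⁻¹ with hy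
    have hyE : y ∈ E := (mem_normalizer_iff.mp (hKxN hc1) x).mp hx
    have h1 : y * u * y⁻¹ = x * u * x⁻¹ := by
      calc y * u * y⁻¹ = c1 * (x * (c1⁻¹ * u * c1) * x⁻¹) * c1⁻¹ := by rw [hy]; group
        _ = c1 * (x * u * x⁻¹) * c1⁻¹ := by
          congr 3
          nth_rewrite 1 [← hcomm u hu]
          group
        _ = x * u * x⁻¹ := hcomm _ hu'
    have hw : x⁻¹ * y ≠ 1 := by
      intro h
      rw [inv_mul_eq_one] at h
      refine hm1 ?_
      rw [← hc1m, hC.act_normalizer (hKxN hc1), phi_eq_one_iff (hKxN hc1)]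
      exact hB.centralizer_of_commute hcard hx hx1 (mul_inv_eq_iff_eq_mul.mp (hy ▸ h.symm))
    have hwu : Commute (x⁻¹ * y) u := by
      refine mul_inv_eq_iff_eq_mul.mp ?_
      calc x⁻¹ * y * u * (x⁻¹ * y)⁻¹ = x⁻¹ * (y * u * y⁻¹) * x := by group
        _ = u := by rw [h1]; group
    exact (mem_centralizer_iff.mp (hB.centralizer_of_commute hcard (mul_mem (inv_mem hx) hyE) hw
      hwu.symm) x hx).symm
  -- `Kx` is cyclic
  haveI : IsCyclic ↥Kx := by
    haveI : IsCyclic (ZMod p)ˣ := ZMod.isCyclic_units_prime Fact.out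
    let f : ↥Kx →* (ZMod p)ˣ :=
      e.toMonoidHom.comp ((hC.actHom hN le_normalizer).comp (Subgroup.inclusion hKxN))
    refine isCyclic_of_injective f ((injective_iff_map_eq_one f).mpr fun c h => Subtype.ext ?_)
    exact hinj c c.2 (e.injective (h.trans (map_one e).symm))
  obtain ⟨c, hc⟩ := IsCyclic.exists_generator (α := ↥Kx)
  obtain ⟨-, L, hL, hEL, hgL, hcL⟩ := hSLOT hk0N hk0K hi0 hk01 c c.2
  refine hbig hL hEL ?_ hgL hk0N hk0K hi0
  refine sup_le (fun u hu => by rw [hU1 u hu]; exact one_mem L) fun a ha => ?_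
  obtain ⟨i, hi⟩ := mem_zpowers_iff.mp (hc ⟨a, ha⟩)
  have : a = (c : G) ^ i := by rw [← Subgroup.coe_zpow, hi]
  exact this ▸ zpow_mem hcL i

end H83.TwoGen
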