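import Cfsg.Agent.H83.TwoGenSol.Local
import Cfsg.Agent.H7.SFT.Final
import Cfsg.Agent.H8.Coprime

/-!
The weakly closed subgroup has rank at most two.
-/

set_option autoImplicit false
set_option linter.style.haveILetI false

namespace H83.TwoGen

open Subgroup
open scoped commutatorElement

universe u

variable {G : Type u} [Group G] [Finite G] {p : ℕ} [Fact p.Prime] {E : Subgroup G}

theorem Base.elementary_of_le_cj (hB : Base G p E) {g : G} {A : Subgroup G} (hA : A ≤ cj g E) :
    Cfsg.IsElementaryAbelian p A :=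
  ⟨⟨⟨fun a b => Subtype.ext (InC.cj_comm hB (hA a.2) (hA b.2)).eq⟩⟩, fun a ha => by
    obtain ⟨e, he, rfl⟩ := hA ha
    rw [← map_pow, hB.pow_eq he, map_one]⟩

theorem sq_le_card {A : Subgroup G} (hA : IsPGroup p A) {x v : G} (hx : x ∈ A) (hx1 : x ≠ 1)
    (hxp : x ^ p = 1) (hv : v ∈ A) (hvx : v ∉ zpowers x) : p ^ 2 ≤ Nat.card A := by
  obtain ⟨k, hk⟩ := hA.exists_card_eq
  have hlt : zpowers x < A := lt_of_le_of_ne (zpowers_le.mpr hx) fun e => hvx (e ▸ hv)
  have h1 : Nat.card (zpowers x) < Nat.card A := by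
    refine lt_of_le_of_ne (Subgroup.card_le_of_le hlt.le) fun e => hlt.ne ?_
    exact eq_of_le_of_card_ge hlt.le e.ge
  rw [Nat.card_zpowers, orderOf_of_pow hxp hx1, hk] at h1
  rw [hk]
  refine Nat.pow_le_pow_right (Fact.out : p.Prime).pos ?_
  by_contra hlt2
  have : p ^ k ≤ p ^ 1 := Nat.pow_le_pow_right (Fact.out : p.Prime).pos (by omega)
  rw [pow_one] at this
  omega

theorem Base.false_of_rank (hB : Base G p E) (h3 : p ^ 3 ≤ Nat.card E) : False := by
  classical
  set S : Subgroup G := ⨆ a : {a : G // a ∈ E ∧ a ≠ 1}, theta p (a : G) with hSdef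
  have hS : ¬ p ∣ Nat.card S := by
    have hθ := H7.centralizerPPrimeCore_functor hB.elem
      (fun a _ ha1 => hB.sol _ (hB.toSetup.centralizer_ne_top ha1))
    exact (H84.SFT.closure_of_complete hθ hB.ne (H7.SFT.complete hB.elem h3 hθ)).2.1
  have hNS : normalizer (E : Set G) ≤ normalizer (S : Set G) := by
    intro n hn
    refine mem_normalizer_iff_map_conj_eq.mpr (eq_of_le_of_card_ge ?_ ?_)
    · rw [hSdef, Subgroup.map_iSup]
      refine iSup_le fun a => ?_
      rintro _ ⟨c, hc, rfl⟩
      exact (le_iSup (fun a : {a : G // a ∈ E ∧ a ≠ 1} => theta p (a : G))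
        ⟨n * (a : G) * n⁻¹, (mem_normalizer_iff.mp hn _).mp a.2.1,
          fun h => a.2.2 (conj_eq_one_iff.mp h)⟩) (theta_conj_mem (n := n) hc)
    · rw [card_map_of_injective]
      exact (MulAut.conj n).injective
  obtain ⟨M, hM, hNM, hSM⟩ : ∃ M : Subgroup G, M ≠ ⊤ ∧ normalizer (E : Set G) ≤ M ∧ S ≤ M := by
    by_cases h : S = ⊥
    · exact ⟨_, hB.normalizer_ne_top, le_rfl, h ▸ bot_le⟩
    · exact ⟨_, hB.toSetup.normalizer_ne_top h (hB.toSetup.ne_top_of_not_dvd hS), hNS, le_normalizer⟩
  have hθM : ∀ e ∈ E, e ≠ 1 → theta p e ≤ M := fun e he he1 =>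
    (le_iSup (fun a : {a : G // a ∈ E ∧ a ≠ 1} => theta p (a : G)) ⟨e, he, he1⟩).trans hSM
  have hCM : ∀ e ∈ E, e ≠ 1 → ∀ g : G, Commute g e → g ∈ M := fun e he he1 g hg => by
    obtain ⟨c, hc, hcg⟩ := hB.theta_mul_normalizer he he1 hg
    have := mul_mem (inv_mem (hθM e he he1 hc)) (hNM hcg)
    rwa [inv_mul_cancel_left] at this
  obtain ⟨x, hx, hx1⟩ : ∃ x ∈ E, x ≠ 1 := E.bot_or_exists_ne_one.resolve_left hB.ne
  have key : ∀ g : G, g * x * g⁻¹ ∈ M := by
    intro g
    set y := g * x * g⁻¹ with hy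
    obtain ⟨s, hs, v, hvD, hvC, hxv, he⟩ := hB.pair (inC_of_mem hx hx1) ((inC_of_mem hx hx1).conj g)
    set D := closure ({x, y} : Set G) with hDdef
    have hxD : x ∈ D := subset_closure (Set.mem_insert _ _)
    have hsT : s ∈ T p D :=
      H1.commutator_le_left_of_le_normalizer
        ((zpowers_le.mpr hxD).trans (le_normalizer_T p D)) hs
    have hvM : v ∈ M := hCM x hx hx1 v hxv.symm
    suffices hsM : s ∈ M by
      rw [hy, he]; exact mul_mem (mul_mem hsM hvM) (inv_mem hsM)
    by_cases hv : v ∈ zpowers x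
    · obtain ⟨z, hz, hzx⟩ : ∃ z ∈ E, z ∉ zpowers x := by
        by_contra h
        push Not at h
        have := h3.trans (Subgroup.card_le_of_le h)
        rw [Nat.card_zpowers, orderOf_of_pow (hB.pow_eq hx) hx1] at this
        have hp : p ^ 1 < p ^ 3 := Nat.pow_lt_pow_right (Fact.out : p.Prime).one_lt (by omega)
        rw [pow_one] at hp
        omega
      set L := closure ({x, s * z} : Set G)
      have hL : L ≠ ⊤ := hB.gen _ _
      have hxL : x ∈ L := subset_closure (Set.mem_insert _ _)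
      have hszL : s * z ∈ L := subset_closure (Set.mem_insert_of_mem _ rfl)
      have hsxs : s * x * s⁻¹ ∈ L := by
        have e : s * z * x * (s * z)⁻¹ = s * (z * x * z⁻¹) * s⁻¹ := by group
        have e' : z * x * z⁻¹ = x := by rw [(hB.comm hz hx).eq, mul_inv_cancel_right]
        rw [e'] at e
        exact e ▸ mul_mem (mul_mem hszL hxL) (inv_mem hszL)
      have hDL : D ≤ L := by
        rw [hDdef, closure_le]
        rintro _ (rfl | rfl)
        · exact hxL
        · have h1 : s * v * s⁻¹ ∈ zpowers (s * x * s⁻¹) := by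
            obtain ⟨i, rfl⟩ := mem_zpowers_iff.mp hv
            exact mem_zpowers_iff.mpr ⟨i, conj_zpow⟩
          show y ∈ L
          exact (hy.trans he).symm ▸ zpowers_le.mpr hsxs h1
      have hzL : z ∈ L := by
        have := mul_mem (inv_mem (hDL (T_le p D hsT))) hszL
        rwa [inv_mul_cancel_left] at this
      set A := zpowers x ⊔ zpowers z
      have hAE : A ≤ E := sup_le (zpowers_le.mpr hx) (zpowers_le.mpr hz)
      have hAL : A ≤ L := sup_le (zpowers_le.mpr hxL) (zpowers_le.mpr hzL)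
      have hTM : T p L ≤ M := by
        refine H8.generation_elements (p := p) ⟨⟨⟨fun a b => Subtype.ext
            (hB.comm (hAE a.2) (hAE b.2)).eq⟩⟩, fun a ha => hB.pow_eq (hAE ha)⟩
          (sq_le_card (hB.isPGroup.to_le hAE) (mem_sup_left (mem_zpowers x)) hx1 (hB.pow_eq hx)
            (mem_sup_right (mem_zpowers z)) hzx)
          (hAL.trans (le_normalizer_T p L)) (not_dvd_card_T p L) fun a ha ha1 t ht => ?_
        exact hCM a (hAE ha) ha1 t (mem_centralizer_singleton_iff.mp ht.2)
      refine hTM (hB.commutator_le hL ((T_le p D).trans hDL) (not_dvd_card_T p D)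
        (zpowers_le.mpr hxL) (hB.inC_zpowers (inC_of_mem hx hx1))
        ((zpowers_le.mpr hxD).trans (le_normalizer_T p D)) hs)
    · obtain ⟨c, hc, hcv⟩ := hB.into_of_commute hx hx1 hvC hxv.symm
      have hcM : c ∈ M := hθM x hx hx1 hc
      set A := zpowers x ⊔ zpowers v
      have hcE : ∀ a ∈ A, c * a * c⁻¹ ∈ E := by
        intro a ha
        have hle : A ≤ E.comap (MulAut.conj c).toMonoidHom := by
          refine sup_le (zpowers_le.mpr ?_) (zpowers_le.mpr hcv)
          show c * x * c⁻¹ ∈ E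
          rwa [(theta_commute hc).eq, mul_inv_cancel_right]
        exact hle ha
      have hA : A ≤ cj c⁻¹ E := fun a ha => mem_cj_iff.mpr (by simpa using hcE a ha)
      have hel := hB.elementary_of_le_cj hA
      refine H8.generation_elements (p := p) hel
        (sq_le_card (fun a => ⟨1, Subtype.ext (by simpa using hel.2 a a.2)⟩)
          (mem_sup_left (mem_zpowers x)) hx1 (hB.pow_eq hx) (mem_sup_right (mem_zpowers v)) hv)
        ((sup_le (zpowers_le.mpr hxD) (zpowers_le.mpr hvD)).trans (le_normalizer_T p D))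
        (not_dvd_card_T p D) (fun a ha ha1 t ht => ?_) hsT
      have h1 : Commute (c * t * c⁻¹) (c * a * c⁻¹) :=
        (show Commute t a from mem_centralizer_singleton_iff.mp ht.2).map (MulAut.conj c).toMonoidHom
      have h2 := hCM _ (hcE a ha) (fun h => ha1 (conj_eq_one_iff.mp h)) _ h1
      have h3 := mul_mem (mul_mem (inv_mem hcM) h2) hcM
      simpa [mul_assoc] using h3
  haveI := hB.simple
  refine hM (top_le_iff.mp ?_)
  rcases (normalClosure_normal (s := ({x} : Set G))).eq_bot_or_eq_top with h | h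
  · exact absurd (Subgroup.mem_bot.mp (h ▸ subset_normalClosure (Set.mem_singleton x))) hx1
  · rw [← h]
    refine (closure_le _).mpr fun y hy => ?_
    obtain ⟨a, ha, hay⟩ := Group.mem_conjugatesOfSet_iff.mp hy
    obtain ⟨c, rfl⟩ := isConj_iff.mp hay
    rw [Set.mem_singleton_iff] at ha
    subst ha
    exact key c

end H83.TwoGen
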