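import Cfsg.Agent.H6.FusionZJ
import Cfsg.Agent.H83.TwoGenSol.Rank
import Cfsg.Agent.H83.TwoGenSol.LineTransfer
import Cfsg.Agent.H83.TwoGenSol.Character
import Cfsg.Agent.H70.SL2Facts
import Cfsg.Agent.H33.TwoPrime

/-!
There is no minimal counterexample to two-generator solubility, given the rank two analysis.
-/

set_option autoImplicit false
set_option linter.style.haveILetI false
set_option linter.unusedSectionVars false

namespace H83.TwoGen

open Subgroup Cfsg

universe u

variable {G : Type u} [Group G] [Finite G] {p : ℕ} [Fact p.Prime]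

theorem Setup.not_involves_sl2 (hS : Setup G p) :
    ¬ Cfsg.Involves (Matrix.SpecialLinearGroup (Fin 2) (ZMod p)) G := by
  rintro ⟨K, R, hn, ⟨e⟩⟩
  haveI := hn
  haveI := hS.simple
  have hp := hS.five
  have hperf := H70.sl2_perfect (F := ZMod p) (by rw [ZMod.card]; omega)
  have h10 : (1 : ZMod p) ≠ 0 := one_ne_zero
  haveI : Nontrivial (Matrix.SpecialLinearGroup (Fin 2) (ZMod p)) :=
    ⟨⟨⟨!![1, 1; 0, 1], by simp [Matrix.det_fin_two]⟩, 1, fun h => by
      have := congrFun (congrFun (congrArg Subtype.val h) 0) 1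
      simp at this⟩⟩
  set f : ↥K →* Matrix.SpecialLinearGroup (Fin 2) (ZMod p) :=
    e.toMonoidHom.comp (QuotientGroup.mk' (R.subgroupOf K))
  have hf : Function.Surjective f := e.surjective.comp (QuotientGroup.mk'_surjective _)
  by_cases hK : K = ⊤
  · subst hK
    set g : G →* Matrix.SpecialLinearGroup (Fin 2) (ZMod p) :=
      f.comp Subgroup.topEquiv.symm.toMonoidHom
    have hg : Function.Surjective g := hf.comp Subgroup.topEquiv.symm.surjective
    rcases (inferInstance : g.ker.Normal).eq_bot_or_eq_top with h | h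
    · obtain ⟨z, hz⟩ := hg (-1)
      have hinj := (MonoidHom.ker_eq_bot_iff g).mp h
      have hzc : z ∈ center G := mem_center_iff.mpr fun a => hinj (by
        rw [map_mul, map_mul, hz]
        ext i j
        simp)
      rw [hS.center_eq_bot, Subgroup.mem_bot] at hzc
      rw [hzc, map_one] at hz
      have h1 := congrFun (congrFun (congrArg Subtype.val hz) 0) 0
      simp at h1
      have h2 : ((2 : ℕ) : ZMod p) = 0 := by push_cast; linear_combination h1
      rw [ZMod.natCast_eq_zero_iff] at h2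
      have := Nat.le_of_dvd (by omega) h2
      omega
    · obtain ⟨a, b, hab⟩ := exists_pair_ne (Matrix.SpecialLinearGroup (Fin 2) (ZMod p))
      obtain ⟨x, rfl⟩ := hg a
      obtain ⟨y, rfl⟩ := hg b
      have hx : ∀ w, g w = 1 := fun w => MonoidHom.mem_ker.mp (h ▸ mem_top w)
      exact hab ((hx x).trans (hx y).symm)
  · haveI := hS.sol K hK
    haveI : Group.IsSolvable (Matrix.SpecialLinearGroup (Fin 2) (ZMod p)) :=
      Group.isSolvable_of_surjective hf
    exact (Group.IsSolvable.commutator_lt_top_of_nontrivial _).ne hperf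

/-- The weakly closed elementary subgroup. -/
theorem Setup.exists_base (hS : Setup G p) : ∃ E : Subgroup G, Base G p E := by
  obtain ⟨P⟩ : Nonempty (Sylow p G) := inferInstance
  have hp2 : p ≠ 2 := by have := hS.five; omega
  have hP1 : (P : Subgroup G) ≠ ⊥ := fun h => by
    have h1 := P.card_eq_multiplicity
    rw [h, Subgroup.card_bot] at h1
    have h2 := (Fact.out : p.Prime).factorization_pos_of_dvd Nat.card_pos.ne' hS.dvd
    have := Nat.one_lt_pow h2.ne' (Fact.out : p.Prime).one_lt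
    omega
  set W := Cfsg.centerThompsonOf p (P : Subgroup G)
  have hWP : W ≤ (P : Subgroup G) := H6.centerThompsonOf_le p _
  have hWc : ∀ {a b : G}, a ∈ W → b ∈ W → Commute a b := fun ha hb =>
    H6.centerThompsonOf_commute p (P : Subgroup G) ha hb
  have hW1 : W ≠ ⊥ := H6.centerThompsonOf_ne_bot P.isPGroup' hP1
  let E : Subgroup G :=
    { carrier := {w | w ∈ W ∧ w ^ p = 1}
      mul_mem' := fun {a b} ha hb => ⟨mul_mem ha.1 hb.1, by
        rw [(hWc ha.1 hb.1).mul_pow, ha.2, hb.2, one_mul]⟩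
      one_mem' := ⟨one_mem _, one_pow _⟩
      inv_mem' := fun {a} ha => ⟨inv_mem ha.1, by rw [inv_pow, ha.2, inv_one]⟩ }
  refine ⟨E, hS, ⟨⟨⟨fun a b => Subtype.ext (hWc a.2.1 b.2.1).eq⟩⟩, fun a ha => ha.2⟩, ?_, P,
    fun x hx => hWP hx.1, ?_⟩
  · intro hE
    haveI : Nontrivial ↥W := (Subgroup.nontrivial_iff_ne_bot W).mpr hW1
    obtain ⟨k, hk⟩ := (P.isPGroup'.to_le hWP).exists_card_eq
    have hdvd : p ∣ Nat.card W := by
      rw [hk]
      refine dvd_pow_self p ?_
      rintro rfl
      rw [pow_zero] at hk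
      exact hW1 (card_eq_one.mp hk)
    obtain ⟨w, hw⟩ := exists_prime_orderOf_dvd_card' p hdvd
    have hmem : (w : G) ∈ E := ⟨w.2, by
      rw [← Subgroup.coe_pow, ← hw, pow_orderOf_eq_one]; rfl⟩
    rw [hE, Subgroup.mem_bot] at hmem
    have : w = 1 := Subtype.ext hmem
    rw [this, orderOf_one] at hw
    exact (Fact.out : p.Prime).ne_one hw.symm
  · intro u hu g hg
    have hfus := H6.fusionIn_centerThompsonOf (p := p) hp2 (Nat.card G) G le_rfl hS.not_involves_sl2 P
    have hle : zpowers u ≤ ((P : Subgroup G).comap (MulAut.conj g).toMonoidHom) :=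
      zpowers_le.mpr hg
    obtain ⟨x, hx, hxe⟩ := hfus (zpowers u) (zpowers_le.mpr (hWP hu.1)) g fun w hw => hle hw
    rw [hxe u (mem_zpowers u)]
    exact ⟨(mem_normalizer_iff.mp hx u).mp hu.1, by rw [conj_pow, hu.2, mul_one, mul_inv_cancel]⟩

/-- A line fixed by `N(E)` is again a base. -/
theorem Base.base_line {E : Subgroup G} (hB : Base G p E) {x : G} (hx : x ∈ E) (hx1 : x ≠ 1)
    (hfix : ∀ n ∈ normalizer (E : Set G), n * x * n⁻¹ ∈ zpowers x) :
    Base G p (zpowers x) := by
  obtain ⟨P, hEP, hfus⟩ := hB.fus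
  refine ⟨hB.toSetup, ⟨inferInstance, fun a ha => ?_⟩, fun h => hx1 (zpowers_eq_bot.mp h), P,
    (zpowers_le.mpr hx).trans hEP, ?_⟩
  · obtain ⟨i, rfl⟩ := mem_zpowers_iff.mp ha
    rw [← zpow_natCast, ← zpow_mul, mul_comm, zpow_mul, zpow_natCast, hB.pow_eq hx, one_zpow]
  · intro u hu g hg
    by_cases hu1 : u = 1
    · subst hu1; rw [mul_one, mul_inv_cancel]; exact one_mem _
    have huE : u ∈ E := zpowers_le.mpr hx hu
    set v := g * u * g⁻¹ with hv
    have hvE : v ∈ E := hfus u huE g hg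
    have hv1 : v ≠ 1 := fun h => hu1 (conj_eq_one_iff.mp h)
    obtain ⟨t, ht, h⟩ := hB.exists_conj (hB.toSetup.centralizer_ne_top hv1) (g := g) (h := 1)
      (by
        rintro _ ⟨a, ha, rfl⟩
        exact mem_centralizer_singleton_iff.mpr
          ((hB.comm ha huE).map (MulAut.conj g).toMonoidHom).eq)
      (by rw [cj_one]; exact hB.le_centralizer hvE)
    rw [cj_one, cj_cj] at h
    have hn := hfix (t * g) (mem_normalizer_of_cj_eq h)
    obtain ⟨i, rfl⟩ := mem_zpowers_iff.mp hu
    have htv : t * v * t⁻¹ = v := by rw [(theta_commute ht).eq, mul_inv_cancel_right]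
    rw [← htv, hv, show t * (g * x ^ i * g⁻¹) * t⁻¹ = (t * g) * x ^ i * (t * g)⁻¹ by group,
      ← conj_zpow]
    exact zpow_mem hn i

/-- Rank one. -/
theorem Base.false_of_card {E : Subgroup G} (hB : Base G p E) (hcard : Nat.card E = p) :
    False := by
  by_cases h : ∀ n ∈ normalizer (E : Set G), phi E n = 1
  · exact hB.false_of_central hcard fun n hn => (phi_eq_one_iff hn).mp (h n hn)
  · push Not at h
    obtain ⟨n, hn, hn1⟩ := h
    exact (hB.conn_of_card hcard).false_of_line hcard hn hn1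

/-- No minimal counterexample, given the plane case. -/
theorem Setup.false_of_plane_case (hS : Setup G p)
    (hplane : ∀ E : Subgroup G, Conn G p E → Nat.card E = p ^ 2 →
      (∀ x ∈ E, x ≠ 1 → ∃ n ∈ normalizer (E : Set G), n * x * n⁻¹ ∉ zpowers x) → False) : False := by
  obtain ⟨E, hB⟩ := hS.exists_base
  obtain ⟨k, hk⟩ := hB.isPGroup.exists_card_eq
  rcases (show k = 0 ∨ k = 1 ∨ k = 2 ∨ 3 ≤ k by omega) with rfl | rfl | rfl | h3
  · rw [pow_zero] at hk
    exact hB.ne (card_eq_one.mp hk)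
  · rw [pow_one] at hk
    exact hB.false_of_card hk
  · by_cases h : ∃ x ∈ E, x ≠ 1 ∧ ∀ n ∈ normalizer (E : Set G), n * x * n⁻¹ ∈ zpowers x
    · obtain ⟨x, hx, hx1, hfix⟩ := h
      refine (hB.base_line hx hx1 hfix).false_of_card ?_
      rw [Nat.card_zpowers, orderOf_of_pow (hB.pow_eq hx) hx1]
    · push Not at h
      exact hplane E (hB.conn_of_card_sq hk) hk h
  · refine hB.false_of_rank ?_
    rw [hk]
    exact Nat.pow_le_pow_right (Fact.out : p.Prime).pos h3

end H83.TwoGen
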