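import Cfsg.Agent.H83.TwoGenSol.Local

/-!
The map `act : G → Aut E` of a minimal counterexample: a homomorphism on every proper subgroup
containing `E`, extending the action of `N(E)` on `E`.
-/

set_option autoImplicit false
set_option linter.style.haveILetI false
set_option linter.unusedSectionVars false

namespace H83.TwoGen

open Subgroup
open scoped commutatorElement

universe u

variable {G : Type u} [Group G] {p : ℕ} {E : Subgroup G}

open Classical in
/-- The action on `E` of an element of `N(E)`, trivial elsewhere. -/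
noncomputable def phi (E : Subgroup G) (g : G) : MulAut ↥E :=
  if h : g ∈ normalizer (E : Set G) then E.normalizerMonoidHom ⟨g, h⟩ else 1

theorem phi_apply {n : G} (hn : n ∈ normalizer (E : Set G)) (e : ↥E) :
    ((phi E n e : ↥E) : G) = n * e * n⁻¹ := by
  rw [phi, dif_pos hn]
  rfl

theorem phi_mul {a b : G} (ha : a ∈ normalizer (E : Set G)) (hb : b ∈ normalizer (E : Set G)) :
    phi E (a * b) = phi E a * phi E b := by
  ext e
  rw [MulAut.mul_apply, phi_apply (mul_mem ha hb), phi_apply ha, phi_apply hb]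
  group

theorem phi_one : phi E 1 = 1 := by
  ext e
  rw [phi_apply (one_mem _)]
  simp

theorem phi_inv {a : G} (ha : a ∈ normalizer (E : Set G)) : phi E a⁻¹ = (phi E a)⁻¹ := by
  refine eq_inv_of_mul_eq_one_left ?_
  rw [← phi_mul (inv_mem ha) ha, inv_mul_cancel, phi_one]

theorem phi_eq_one_iff {a : G} (ha : a ∈ normalizer (E : Set G)) :
    phi E a = 1 ↔ a ∈ centralizer (E : Set G) := by
  constructor
  · intro h
    refine mem_centralizer_iff.mpr fun e he => ?_
    have h1 := congrArg (Subtype.val : ↥E → G) (congrArg (fun σ : MulAut ↥E => σ ⟨e, he⟩) h)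
    simp only [MulAut.one_apply, phi_apply ha] at h1
    exact (mul_inv_eq_iff_eq_mul.mp h1).symm
  · intro h
    ext e
    rw [phi_apply ha, MulAut.one_apply, ← mem_centralizer_iff.mp h e e.2, mul_inv_cancel_right]

theorem mem_normalizer_of_cj_eq {n : G} (h : cj n E = E) : n ∈ normalizer (E : Set G) :=
  mem_normalizer_iff_map_conj_eq.mpr h

theorem cj_eq_of_mem {n : G} (h : n ∈ normalizer (E : Set G)) : cj n E = E :=
  mem_normalizer_iff_map_conj_eq.mp h

theorem cj_one (H : Subgroup G) : cj (1 : G) H = H := by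
  ext y
  simp [mem_cj_iff]

theorem cj_cj (a b : G) (H : Subgroup G) : cj a (cj b H) = cj (a * b) H := by
  ext y
  simp [mem_cj_iff, mul_assoc]

theorem cj_le_cj {a : G} {H K : Subgroup G} (h : H ≤ K) : cj a H ≤ cj a K := map_mono h

theorem cj_le_of_mem {a : G} {H L : Subgroup G} (ha : a ∈ L) (h : H ≤ L) : cj a H ≤ L := by
  rintro _ ⟨y, hy, rfl⟩
  exact mul_mem (mul_mem ha (h hy)) (inv_mem ha)

/-- Inverse-transport of membership in a conjugate. -/
theorem inv_mul_mem_normalizer {t g : G} (h : cj t E = cj g E) :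
    t⁻¹ * g ∈ normalizer (E : Set G) := by
  refine mem_normalizer_of_cj_eq ?_
  rw [← cj_cj, ← h, cj_cj, inv_mul_cancel, cj_one]

/-- `E` together with any conjugate of it lies in a proper subgroup. -/
structure Conn (G : Type u) [Group G] (p : ℕ) (E : Subgroup G) : Prop extends Base G p E where
  conn : ∀ g : G, ∃ L : Subgroup G, L ≠ ⊤ ∧ E ≤ L ∧ cj g E ≤ L

theorem Base.ne_top_self (hB : Base G p E) : E ≠ ⊤ :=
  hB.toSetup.ne_top_of_comm fun _ ha _ hb => (hB.comm ha hb).eq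

variable [Finite G] [Fact p.Prime]

/-- `T L ∩ E = 1`. -/
theorem Base.eq_one_of_mem_T (hB : Base G p E) {L : Subgroup G} {e : G} (he : e ∈ E)
    (heT : e ∈ T p L) : e = 1 := by
  by_contra h1
  have h := not_dvd_orderOf_of_mem (not_dvd_card_T p L) heT
  rw [orderOf_of_pow (hB.pow_eq he) h1] at h
  exact h dvd_rfl

/-- Elements of `T L` normalising `E ≤ L` centralise it. -/
theorem Base.centralizes_of_mem_T (hB : Base G p E) {L : Subgroup G} (hEL : E ≤ L) {w : G}
    (hw : w ∈ T p L) (hwN : w ∈ normalizer (E : Set G)) : w ∈ centralizer (E : Set G) := by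
  refine mem_centralizer_iff.mpr fun e he => ?_
  have h1 : ⁅w, e⁆ ∈ E := mul_mem ((mem_normalizer_iff.mp hwN e).mp he) (inv_mem he)
  have h2 : ⁅w, e⁆ ∈ T p L := by
    have e1 : ⁅w, e⁆ = w * (e * w⁻¹ * e⁻¹) := by rw [commutatorElement_def]; group
    rw [e1]
    exact mul_mem hw (T_conj_mem (hEL he) (inv_mem hw))
  have h3 := hB.eq_one_of_mem_T h1 h2
  rw [commutatorElement_eq_one_iff_mul_comm] at h3
  exact h3.symm

/-- Decomposition `g = t n`. -/
theorem Base.exists_split (hB : Base G p E) {L : Subgroup G} (hL : L ≠ ⊤) (hEL : E ≤ L) {g : G}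
    (hg : cj g E ≤ L) :
    ∃ t ∈ T p L, ∃ n ∈ normalizer (E : Set G), g = t * n := by
  obtain ⟨t, ht, h⟩ := hB.exists_conj hL (g := 1) (h := g) (by rwa [cj_one]) hg
  rw [cj_one] at h
  exact ⟨t, ht, t⁻¹ * g, inv_mul_mem_normalizer h, by group⟩

/-- The induced automorphism does not depend on the splitting. -/
theorem Base.split_unique (hB : Base G p E) {L1 L2 : Subgroup G} (h1 : L1 ≠ ⊤) (h2 : L2 ≠ ⊤)
    (hE1 : E ≤ L1) (hE2 : E ≤ L2) {g t1 n1 t2 n2 : G} (hg1 : cj g E ≤ L1) (hg2 : cj g E ≤ L2)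
    (ht1 : t1 ∈ T p L1) (hn1 : n1 ∈ normalizer (E : Set G)) (e1 : g = t1 * n1)
    (ht2 : t2 ∈ T p L2) (hn2 : n2 ∈ normalizer (E : Set G)) (e2 : g = t2 * n2) :
    phi E n1 = phi E n2 := by
  set L0 := E ⊔ cj g E
  have h01 : L0 ≤ L1 := sup_le hE1 hg1
  have h02 : L0 ≤ L2 := sup_le hE2 hg2
  have hL0 : L0 ≠ ⊤ := fun e => h1 (top_le_iff.mp (e ▸ h01))
  obtain ⟨t, ht, h⟩ := hB.exists_conj hL0 (g := 1) (h := g)
    (by rw [cj_one]; exact le_sup_left) le_sup_right
  rw [cj_one] at h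
  have hEn : E ≤ normalizer (T p L0 : Set G) := le_sup_left.trans (le_normalizer_T p L0)
  obtain ⟨a, ha, c, -, hc, rfl⟩ := exists_decomp hB.isPGroup hEn (not_dvd_card_T p L0) ht
  have hn0 : a⁻¹ * g ∈ normalizer (E : Set G) := by
    refine inv_mul_mem_normalizer ?_
    rw [← h, ← cj_cj, cj_eq_of_mem (centralizer_le_normalizer _ hc)]
  have key : ∀ {L : Subgroup G}, L ≠ ⊤ → E ≤ L → L0 ≤ L → ∀ {t' n' : G}, t' ∈ T p L →
      n' ∈ normalizer (E : Set G) → g = t' * n' → phi E n' = phi E (a⁻¹ * g) := by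
    intro L hL hE h0 t' n' ht' hn' e'
    have haT : a ∈ T p L := hB.commutator_le hL ((T_le p L0).trans h0) (not_dvd_card_T p L0) hE
      hB.inC_self hEn ha
    have hw : t'⁻¹ * a ∈ T p L := mul_mem (inv_mem ht') haT
    have hwN : t'⁻¹ * a ∈ normalizer (E : Set G) := by
      have := mul_mem hn' (inv_mem hn0)
      rwa [show n' * (a⁻¹ * g)⁻¹ = t'⁻¹ * a by rw [e']; group] at this
    have e3 : n' = (t'⁻¹ * a) * (a⁻¹ * g) := by rw [e']; group
    rw [e3, phi_mul hwN hn0, (phi_eq_one_iff hwN).mpr (hB.centralizes_of_mem_T hE hw hwN), one_mul]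
  rw [key h1 hE1 h01 ht1 hn1 e1, key h2 hE2 h02 ht2 hn2 e2]

theorem Conn.exists_n (hC : Conn G p E) (g : G) :
    ∃ n ∈ normalizer (E : Set G), ∃ L : Subgroup G, L ≠ ⊤ ∧ E ≤ L ∧ cj g E ≤ L ∧
      ∃ t ∈ T p L, g = t * n := by
  obtain ⟨L, hL, hEL, hg⟩ := hC.conn g
  obtain ⟨t, ht, n, hn, e⟩ := hC.toBase.exists_split hL hEL hg
  exact ⟨n, hn, L, hL, hEL, hg, t, ht, e⟩

/-- The automorphism of `E` induced by an arbitrary element. -/
noncomputable def Conn.act (hC : Conn G p E) (g : G) : MulAut ↥E :=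
  phi E (hC.exists_n g).choose

variable (hC : Conn G p E)

include hC

theorem Conn.act_eq {L : Subgroup G} (hL : L ≠ ⊤) (hEL : E ≤ L) {g t n : G} (ht : t ∈ T p L)
    (hn : n ∈ normalizer (E : Set G)) (e : g = t * n) : hC.act g = phi E n := by
  obtain ⟨hn', L', hL', hEL', hg', t', ht', e'⟩ := (hC.exists_n g).choose_spec
  refine hC.toBase.split_unique hL' hL hEL' hEL hg' ?_ ht' hn' e' ht hn e
  rw [e, ← cj_cj, cj_eq_of_mem hn]
  exact cj_le_of_mem (T_le p L ht) hEL

theorem Conn.act_normalizer {n : G} (hn : n ∈ normalizer (E : Set G)) :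
    hC.act n = phi E n :=
  hC.act_eq hC.toBase.ne_top_self le_rfl (one_mem _) hn (one_mul n).symm

theorem Conn.act_one : hC.act 1 = 1 := by rw [hC.act_normalizer (one_mem _), phi_one]

theorem Conn.act_of_centralizer {n : G} (hn : n ∈ centralizer (E : Set G)) : hC.act n = 1 := by
  rw [hC.act_normalizer (centralizer_le_normalizer _ hn),
    (phi_eq_one_iff (centralizer_le_normalizer _ hn)).mpr hn]

theorem Conn.act_T {L : Subgroup G} (hL : L ≠ ⊤) (hEL : E ≤ L) {t : G} (ht : t ∈ T p L) :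
    hC.act t = 1 := by
  rw [hC.act_eq hL hEL ht (one_mem _) (mul_one t).symm, phi_one]

theorem Conn.act_theta {x c : G} (hx : x ∈ E) (hx1 : x ≠ 1) (hc : c ∈ theta p x) :
    hC.act c = 1 :=
  hC.act_T (hC.toSetup.centralizer_ne_top hx1) (hC.toBase.le_centralizer hx) hc

theorem Conn.act_mem_range (g : G) :
    ∃ n ∈ normalizer (E : Set G), hC.act g = phi E n ∧ hC.act g = hC.act n := by
  obtain ⟨n, hn, L, hL, hEL, -, t, ht, e⟩ := hC.exists_n g
  exact ⟨n, hn, hC.act_eq hL hEL ht hn e, by rw [hC.act_eq hL hEL ht hn e, hC.act_normalizer hn]⟩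

theorem Conn.act_mul_normalizer (g : G) {n : G} (hn : n ∈ normalizer (E : Set G)) :
    hC.act (g * n) = hC.act g * phi E n := by
  obtain ⟨m, hm, L, hL, hEL, -, t, ht, e⟩ := hC.exists_n g
  rw [hC.act_eq hL hEL ht hm e, ← phi_mul hm hn]
  exact hC.act_eq hL hEL ht (mul_mem hm hn) (by rw [e, mul_assoc])

theorem Conn.act_normalizer_mul (g : G) {n : G} (hn : n ∈ normalizer (E : Set G)) :
    hC.act (n * g) = phi E n * hC.act g := by
  obtain ⟨m, hm, L, hL, hEL, -, t, ht, e⟩ := hC.exists_n g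
  rw [hC.act_eq hL hEL ht hm e, ← phi_mul hn hm]
  refine hC.act_eq (conj_ne_top hL n) ?_ (T_mem_of_conj n ht) (mul_mem hn hm) (by rw [e]; group)
  calc E = cj n E := (cj_eq_of_mem hn).symm
    _ ≤ _ := cj_le_cj hEL

theorem Conn.act_conj_normalizer (g : G) {n : G} (hn : n ∈ normalizer (E : Set G)) :
    hC.act (n * g * n⁻¹) = phi E n * hC.act g * (phi E n)⁻¹ := by
  rw [hC.act_mul_normalizer _ (inv_mem hn), hC.act_normalizer_mul g hn, phi_inv hn]

/-- An element of a proper `L ≥ E` splits inside `L`. -/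
theorem Conn.exists_split_mem {L : Subgroup G} (hL : L ≠ ⊤) (hEL : E ≤ L) {g : G} (hg : g ∈ L) :
    ∃ t ∈ T p L, ∃ n ∈ normalizer (E : Set G), n ∈ L ∧ g = t * n ∧ hC.act g = phi E n := by
  obtain ⟨t, ht, n, hn, e⟩ := hC.toBase.exists_split hL hEL (cj_le_of_mem hg hEL)
  refine ⟨t, ht, n, hn, ?_, e, hC.act_eq hL hEL ht hn e⟩
  have := mul_mem (inv_mem (T_le p L ht)) hg
  rwa [e, inv_mul_cancel_left] at this

theorem Conn.act_mul {L : Subgroup G} (hL : L ≠ ⊤) (hEL : E ≤ L) {a b : G} (ha : a ∈ L)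
    (hb : b ∈ L) : hC.act (a * b) = hC.act a * hC.act b := by
  obtain ⟨t1, ht1, n1, hn1, hn1L, e1, f1⟩ := hC.exists_split_mem hL hEL ha
  obtain ⟨t2, ht2, n2, hn2, -, e2, f2⟩ := hC.exists_split_mem hL hEL hb
  rw [f1, f2, ← phi_mul hn1 hn2]
  exact hC.act_eq hL hEL (mul_mem ht1 (T_conj_mem hn1L ht2)) (mul_mem hn1 hn2)
    (by rw [e1, e2]; group)

/-- `act` as a homomorphism on a proper subgroup containing `E`. -/
noncomputable def Conn.actHom {L : Subgroup G} (hL : L ≠ ⊤) (hEL : E ≤ L) : ↥L →* MulAut ↥E where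
  toFun a := hC.act a
  map_one' := hC.act_one
  map_mul' a b := hC.act_mul hL hEL a.2 b.2

theorem Conn.actHom_apply {L : Subgroup G} (hL : L ≠ ⊤) (hEL : E ≤ L) (a : ↥L) :
    hC.actHom hL hEL a = hC.act a := rfl

theorem Conn.act_inv {L : Subgroup G} (hL : L ≠ ⊤) (hEL : E ≤ L) {a : G} (ha : a ∈ L) :
    hC.act a⁻¹ = (hC.act a)⁻¹ := by
  have h := map_inv (hC.actHom hL hEL) ⟨a, ha⟩
  simpa only [Conn.actHom_apply, InvMemClass.coe_inv] using h

theorem Conn.act_pow {L : Subgroup G} (hL : L ≠ ⊤) (hEL : E ≤ L) {a : G} (ha : a ∈ L) (k : ℕ) :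
    hC.act (a ^ k) = hC.act a ^ k := by
  have h := map_pow (hC.actHom hL hEL) ⟨a, ha⟩ k
  simpa only [Conn.actHom_apply, SubmonoidClass.coe_pow] using h

theorem Conn.act_conj {L : Subgroup G} (hL : L ≠ ⊤) (hEL : E ≤ L) {a b : G} (ha : a ∈ L)
    (hb : b ∈ L) : hC.act (a * b * a⁻¹) = hC.act a * hC.act b * (hC.act a)⁻¹ := by
  rw [hC.act_mul hL hEL (mul_mem ha hb) (inv_mem ha), hC.act_mul hL hEL ha hb,
    hC.act_inv hL hEL ha]

/-- In a proper `L ≥ E` conjugation of `E` is `act` up to `T L`. -/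
theorem Conn.conj_eq_act {L : Subgroup G} (hL : L ≠ ⊤) (hEL : E ≤ L) {g : G} (hg : g ∈ L)
    (e : ↥E) : ∃ t ∈ T p L, g * (e : G) * g⁻¹ = t * ((hC.act g e : ↥E) : G) * t⁻¹ := by
  obtain ⟨t, ht, n, hn, -, he, hf⟩ := hC.exists_split_mem hL hEL hg
  refine ⟨t, ht, ?_⟩
  rw [hf, phi_apply hn, he]
  group

omit hC

/-- Two elements of `E` congruent modulo some `T L` are equal. -/
theorem Base.eq_of_conj_T (hB : Base G p E) {L : Subgroup G} (hEL : E ≤ L) {t a b : G}
    (ht : t ∈ T p L) (ha : a ∈ E) (hb : b ∈ E) (h : t * a * t⁻¹ = b) : a = b := by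
  refine (mul_inv_eq_one.mp (hB.eq_one_of_mem_T (L := L) (mul_mem hb (inv_mem ha)) ?_)).symm
  rw [← h, show t * a * t⁻¹ * a⁻¹ = t * (a * t⁻¹ * a⁻¹) by group]
  exact mul_mem ht (T_conj_mem (hEL ha) (inv_mem ht))

/-- Rank one: `Conn` holds. -/
theorem Base.conn_of_card (hB : Base G p E) (hcard : Nat.card E = p) : Conn G p E := by
  refine ⟨hB, fun g => ?_⟩
  obtain ⟨x, hx, hx1⟩ : ∃ x ∈ E, x ≠ 1 := E.bot_or_exists_ne_one.resolve_left hB.ne
  have hE : E = zpowers x := (eq_of_le_of_card_ge (zpowers_le.mpr hx)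
    (by rw [Nat.card_zpowers, orderOf_of_pow (hB.pow_eq hx) hx1, hcard])).symm
  refine ⟨closure ({x, g * x * g⁻¹} : Set G), hB.gen _ _, ?_, ?_⟩
  · rw [hE, zpowers_le]
    exact subset_closure (Set.mem_insert _ _)
  · rw [hE, cj, MonoidHom.map_zpowers, zpowers_le]
    exact subset_closure (Set.mem_insert_of_mem _ rfl)

/-- Rank two: `Conn` holds. -/
theorem Base.conn_of_card_sq (hB : Base G p E) (hcard : Nat.card E = p ^ 2) : Conn G p E := by
  refine ⟨hB, fun g => ?_⟩
  obtain ⟨x, hx, hx1⟩ : ∃ x ∈ E, x ≠ 1 := E.bot_or_exists_ne_one.resolve_left hB.ne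
  have hEeq : ∀ {z : G}, z ∈ E → z ∉ zpowers x → E ≤ zpowers x ⊔ zpowers z := by
    intro z hz hzx
    have hle : zpowers x ⊔ zpowers z ≤ E := sup_le (zpowers_le.mpr hx) (zpowers_le.mpr hz)
    have hlt : zpowers x < zpowers x ⊔ zpowers z :=
      lt_of_le_of_ne le_sup_left fun e => hzx (e ▸ mem_sup_right (mem_zpowers z))
    obtain ⟨k, hk⟩ := (hB.isPGroup.to_le hle).exists_card_eq
    refine (eq_of_le_of_card_ge hle ?_).ge
    rw [hk, hcard]
    refine Nat.pow_le_pow_right (Fact.out : p.Prime).pos ?_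
    by_contra hlt2
    have h1 : p ^ k ≤ p ^ 1 := Nat.pow_le_pow_right (Fact.out : p.Prime).pos (by omega)
    refine hlt.ne (eq_of_le_of_card_ge hlt.le ?_)
    rw [hk, Nat.card_zpowers, orderOf_of_pow (hB.pow_eq hx) hx1]
    simpa using h1
  have hxp := hB.pow_eq hx
  have hInx := inC_of_mem hx hx1
  set y := g * x * g⁻¹ with hy
  have hy1 : y ≠ 1 := fun h => hx1 (conj_eq_one_iff.mp h)
  obtain ⟨s, hs, v, hvD, hvC, hxv, he⟩ := hB.pair hInx (hInx.conj g)
  rw [← hy] at hs hvD he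
  set D := closure ({x, y} : Set G) with hD
  have hxD : x ∈ D := subset_closure (Set.mem_insert _ _)
  have hsT : s ∈ T p D :=
    H1.commutator_le_left_of_le_normalizer ((zpowers_le.mpr hxD).trans (le_normalizer_T p D)) hs
  have hgy : cj g E ≤ centralizer ({y} : Set G) := by
    rintro _ ⟨a, ha, rfl⟩
    exact mem_centralizer_singleton_iff.mpr
      ((hB.comm ha hx).map (MulAut.conj g).toMonoidHom).eq
  have hsy : ∀ {h : G}, v ∈ cj h E → cj (s * h) E ≤ centralizer ({y} : Set G) := by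
    intro h hv
    rintro _ ⟨a, ha, rfl⟩
    refine mem_centralizer_singleton_iff.mpr ?_
    have h1 : Commute (h * a * h⁻¹) v := InC.cj_comm hB (mem_cj ha) hv
    have h2 := h1.map (MulAut.conj s).toMonoidHom
    rw [he]
    simpa [mul_assoc] using h2.eq
  by_cases hv : v ∈ zpowers x
  · obtain ⟨z, hz, hzx⟩ : ∃ z ∈ E, z ∉ zpowers x := by
      by_contra h
      push Not at h
      have := Subgroup.card_le_of_le h
      rw [Nat.card_zpowers, orderOf_of_pow hxp hx1, hcard] at this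
      have hp : p ^ 1 < p ^ 2 := Nat.pow_lt_pow_right (Fact.out : p.Prime).one_lt (by omega)
      rw [pow_one] at hp
      omega
    have hvE : v ∈ cj (1 : G) E := by rw [cj_one]; exact zpowers_le.mpr hx hv
    have hsC := hsy hvE
    rw [mul_one] at hsC
    obtain ⟨d, hd, hdE⟩ := hB.exists_conj (hB.toSetup.centralizer_ne_top hy1) hsC hgy
    set c := s⁻¹ * d * s with hc
    have hcθ : c ∈ theta p v := by
      have h := theta_conj_mem (n := s⁻¹) hd
      rw [inv_inv] at h
      rwa [show s⁻¹ * y * s = v by rw [he]; group] at h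
    have hcx : Commute x c := by
      obtain ⟨i, hi⟩ := mem_zpowers_iff.mp
        (show x ∈ zpowers v from mem_of_zpow_mem hxp hv hvC.1 (mem_zpowers v))
      rw [← hi]
      exact ((theta_commute hcθ).symm).zpow_left i
    have hcop := coprime_orders hxp (not_dvd_orderOf_of_mem (not_dvd_card_T p _) hcθ)
    set L := closure ({x * c, s * z} : Set G)
    have hL : L ≠ ⊤ := hB.gen _ _
    have hxc : x * c ∈ L := subset_closure (Set.mem_insert _ _)
    have hszL : s * z ∈ L := subset_closure (Set.mem_insert_of_mem _ rfl)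
    have hxL := left_mem_of_mul_mem hcx hcop hxc
    have hcL := right_mem_of_mul_mem hcx hcop hxc
    have hsxs : s * x * s⁻¹ ∈ L := by
      have e : s * z * x * (s * z)⁻¹ = s * (z * x * z⁻¹) * s⁻¹ := by group
      rw [(hB.comm hz hx).eq, mul_inv_cancel_right] at e
      exact e ▸ mul_mem (mul_mem hszL hxL) (inv_mem hszL)
    have hDL : D ≤ L := by
      rw [hD, closure_le]
      rintro _ (rfl | rfl)
      · exact hxL
      · have h1 : s * v * s⁻¹ ∈ zpowers (s * x * s⁻¹) := by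
          obtain ⟨i, rfl⟩ := mem_zpowers_iff.mp hv
          exact mem_zpowers_iff.mpr ⟨i, conj_zpow⟩
        rw [SetLike.mem_coe, he]
        exact zpowers_le.mpr hsxs h1
    have hsL : s ∈ L := hDL (T_le p D hsT)
    have hzL : z ∈ L := by
      have := mul_mem (inv_mem hsL) hszL
      rwa [inv_mul_cancel_left] at this
    have hEL : E ≤ L := (hEeq hz hzx).trans (sup_le (zpowers_le.mpr hxL) (zpowers_le.mpr hzL))
    refine ⟨L, hL, hEL, ?_⟩
    rw [← hdE, cj_cj, show d * s = s * c by rw [hc]; group]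
    exact cj_le_of_mem (mul_mem hsL hcL) hEL
  · obtain ⟨c, hc, hcv⟩ := hB.into_of_commute hx hx1 hvC hxv.symm
    have hcvE : v ∈ cj c⁻¹ E := mem_cj_iff.mpr (by simpa using hcv)
    obtain ⟨d, hd, hdE⟩ := hB.exists_conj (hB.toSetup.centralizer_ne_top hy1) (hsy hcvE) hgy
    set L := closure ({x * c, y * d} : Set G)
    have hL : L ≠ ⊤ := hB.gen _ _
    have hxc : x * c ∈ L := subset_closure (Set.mem_insert _ _)
    have hyd : y * d ∈ L := subset_closure (Set.mem_insert_of_mem _ rfl)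
    have hc1 := coprime_orders hxp (not_dvd_orderOf_of_mem (not_dvd_card_T p _) hc)
    have hd1 := coprime_orders ((hInx.conj g).pow_eq hB)
      (not_dvd_orderOf_of_mem (not_dvd_card_T p _) hd)
    have hxL := left_mem_of_mul_mem (theta_commute hc).symm hc1 hxc
    have hcL := right_mem_of_mul_mem (theta_commute hc).symm hc1 hxc
    have hyL := left_mem_of_mul_mem (theta_commute hd).symm hd1 hyd
    have hdL := right_mem_of_mul_mem (theta_commute hd).symm hd1 hyd
    have hDL : D ≤ L := by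
      rw [hD, closure_le]
      rintro _ (rfl | rfl)
      · exact hxL
      · exact hyL
    have hcz : c * v * c⁻¹ ∉ zpowers x := by
      intro h
      obtain ⟨i, hi⟩ := mem_zpowers_iff.mp h
      refine hv (mem_zpowers_iff.mpr ⟨i, ?_⟩)
      have h1 : c⁻¹ * (x ^ i) * c = x ^ i := by
        rw [mul_assoc, ((theta_commute hc).zpow_right i).symm.eq, inv_mul_cancel_left]
      rw [← h1, hi]
      group
    have hEL : E ≤ L := (hEeq hcv hcz).trans (sup_le (zpowers_le.mpr hxL)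
      (zpowers_le.mpr (mul_mem (mul_mem hcL (hDL hvD)) (inv_mem hcL))))
    refine ⟨L, hL, hEL, ?_⟩
    rw [← hdE, cj_cj]
    exact cj_le_of_mem (mul_mem hdL (mul_mem (hDL (T_le p D hsT)) (inv_mem hcL))) hEL

end H83.TwoGen
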