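import Cfsg.Agent.H6.SL2Section
import Cfsg.Agent.H71.HallSCN
import Cfsg.Agent.H10.PSolvable
import Cfsg.Agent.H80.Detect
import Cfsg.Agent.H1.CoprimeAction

/-!
`p`-stability of soluble groups for `p ≥ 5`.
-/

set_option autoImplicit false
set_option linter.style.haveILetI false

namespace H83.TwoGen

open Subgroup
open scoped commutatorElement

universe u

variable {L : Type u} [Group L] [Finite L] {p : ℕ} [Fact p.Prime]

/-- Soluble groups act `p`-stably on normal `p`-subgroups, `p ≥ 5`. -/
theorem isPStableOn_solvable (hp : 5 ≤ p) [Group.IsSolvable L] (V : Subgroup L) [V.Normal]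
    (hV : IsPGroup p V) : Cfsg.IsPStableOn p V :=
  H6.isPStableOn_of_free (H71.not_involves_sl2_of_solvable hp) (by omega) V hV

/-- A normal abelian subgroup of a Sylow subgroup lies in `O_{p',p}`. -/
theorem abelian_le_pPrimePCore (hp : 5 ≤ p) [Group.IsSolvable L] (S : Sylow p L)
    {A : Subgroup L} (hAS : A ≤ (S : Subgroup L))
    (hSA : (S : Subgroup L) ≤ normalizer (A : Set L)) (hA : A ≤ centralizer (A : Set L)) :
    A ≤ Cfsg.pPrimePCore p L := by
  haveI := H1.pPrimeCore_normal' p L
  set f := QuotientGroup.mk' (Cfsg.pPrimeCore p L) with hf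
  have hfs : Function.Surjective f := QuotientGroup.mk'_surjective _
  set Q := L ⧸ Cfsg.pPrimeCore p L with hQ
  haveI : Group.IsSolvable Q := inferInstanceAs (Group.IsSolvable (L ⧸ Cfsg.pPrimeCore p L))
  set F := Cfsg.pCore p Q with hFdef
  haveI := H1.pCore_normal' p Q
  have hFp : IsPGroup p F := H1.isPGroup_pCore p Q
  have hCF : centralizer (F : Set Q) ≤ F :=
    H10.centralizer_pCore_le H10.isPSolvable_of_isSolvable (H1.pPrimeCore_quotient_pPrimeCore ..)
  have hFS : F ≤ (S : Subgroup L).map f := IsPGroup.le_sylow_of_normal hFp (S.mapSurjective hfs)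
  intro a ha
  show f a ∈ F
  have hq : ⁅⁅F, zpowers (f a)⁆, zpowers (f a)⁆ = ⊥ := by
    rw [← le_bot_iff]
    calc ⁅⁅F, zpowers (f a)⁆, zpowers (f a)⁆ ≤ ⁅⁅F, A.map f⁆, A.map f⁆ :=
          commutator_mono (commutator_mono le_rfl (zpowers_le.mpr (mem_map_of_mem f ha)))
            (zpowers_le.mpr (mem_map_of_mem f ha))
      _ ≤ ⁅A.map f, A.map f⁆ := commutator_mono ((commutator_comm _ _).le.trans
          (H1.commutator_le_left_of_le_normalizer
            (hFS.trans ((map_mono hSA).trans (le_normalizer_map f))))) le_rfl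
      _ = ⊥ := by
          rw [← map_commutator, commutator_eq_bot_iff_le_centralizer.mpr hA, Subgroup.map_bot]
  have hmem := isPStableOn_solvable hp F hFp (f a) hq
  set C := centralizer (F : Set Q) with hC
  haveI := H1.pCore_normal' p (Q ⧸ C)
  set D := (Cfsg.pCore p (Q ⧸ C)).comap (QuotientGroup.mk' C) with hD
  haveI : D.Normal := Subgroup.Normal.comap inferInstance _
  have hDp : IsPGroup p D := by
    refine (H1.isPGroup_pCore p _).comap_of_ker_isPGroup _ ?_
    rw [QuotientGroup.ker_mk']
    exact hFp.to_le hCF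
  exact H1.le_pCore hDp hmem

end H83.TwoGen
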