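import Cfsg.Agent.H83.TwoGenSol.Basic
import Cfsg.Agent.H83.TwoGenSol.Stable

/-!
Local analysis for a weakly closed elementary abelian subgroup `E` in a minimal counterexample.
-/

set_option autoImplicit false
set_option linter.style.haveILetI false

namespace H83.TwoGen

open Subgroup
open scoped commutatorElement

universe u

variable {G : Type u} [Group G]

/-- A nontrivial conjugate of an element of `E`. -/
def InC (E : Subgroup G) (u : G) : Prop := u ≠ 1 ∧ ∃ g : G, ∃ e ∈ E, u = g * e * g⁻¹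

/-- Conjugate of a subgroup. -/
abbrev cj (g : G) (H : Subgroup G) : Subgroup G := H.map (MulAut.conj g).toMonoidHom

theorem mem_cj {g x : G} {H : Subgroup G} (hx : x ∈ H) : g * x * g⁻¹ ∈ cj g H := ⟨x, hx, rfl⟩

theorem mem_cj_iff {g x : G} {H : Subgroup G} : x ∈ cj g H ↔ g⁻¹ * x * g ∈ H := by
  constructor
  · rintro ⟨y, hy, rfl⟩
    show g⁻¹ * (g * y * g⁻¹) * g ∈ H
    simpa [mul_assoc] using hy
  · intro h
    exact ⟨_, h, by show g * (g⁻¹ * x * g) * g⁻¹ = x; group⟩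

theorem card_cj (g : G) (H : Subgroup G) : Nat.card (cj g H) = Nat.card H :=
  card_map_of_injective (MulAut.conj g).injective

/-- The standing hypotheses on `E`. -/
structure Base (G : Type u) [Group G] (p : ℕ) (E : Subgroup G) : Prop extends Setup G p where
  elem : Cfsg.IsElementaryAbelian p E
  ne : E ≠ ⊥
  fus : ∃ P : Sylow p G, E ≤ (P : Subgroup G) ∧
    ∀ u ∈ E, ∀ g : G, g * u * g⁻¹ ∈ (P : Subgroup G) → g * u * g⁻¹ ∈ E

variable {p : ℕ} {E : Subgroup G}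

theorem Base.pow_eq (hB : Base G p E) {x : G} (hx : x ∈ E) : x ^ p = 1 := hB.elem.2 x hx

theorem Base.comm (hB : Base G p E) {a b : G} (ha : a ∈ E) (hb : b ∈ E) : Commute a b :=
  congrArg Subtype.val (hB.elem.1.is_comm.comm ⟨a, ha⟩ ⟨b, hb⟩)

theorem inC_of_mem {x : G} (hx : x ∈ E) (hx1 : x ≠ 1) : InC E x := ⟨hx1, 1, x, hx, by group⟩

theorem InC.conj {u : G} (h : InC E u) (g : G) : InC E (g * u * g⁻¹) := by
  obtain ⟨h1, a, e, he, rfl⟩ := h
  refine ⟨fun h => h1 (conj_eq_one_iff.mp h), g * a, e, he, by group⟩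

theorem inC_of_mem_cj {g u : G} (hu : u ∈ cj g E) (hu1 : u ≠ 1) : InC E u := by
  obtain ⟨e, he, rfl⟩ := hu
  exact ⟨hu1, g, e, he, rfl⟩

theorem InC.pow_eq (hB : Base G p E) {u : G} (h : InC E u) : u ^ p = 1 := by
  obtain ⟨-, a, e, he, rfl⟩ := h
  rw [conj_pow, hB.pow_eq he, mul_one, mul_inv_cancel]

theorem InC.cj_comm (hB : Base G p E) {g a b : G} (ha : a ∈ cj g E) (hb : b ∈ cj g E) :
    Commute a b := by
  obtain ⟨x, hx, rfl⟩ := ha
  obtain ⟨y, hy, rfl⟩ := hb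
  exact (hB.comm hx hy).map (MulAut.conj g).toMonoidHom

theorem Base.isPGroup (hB : Base G p E) : IsPGroup p E := fun x =>
  ⟨1, Subtype.ext (by simpa using hB.pow_eq x.2)⟩

theorem Base.normalizer_ne_top [Finite G] (hB : Base G p E) :
    normalizer (E : Set G) ≠ ⊤ :=
  hB.toSetup.normalizer_ne_top hB.ne (hB.toSetup.ne_top_of_comm fun _ ha _ hb => (hB.comm ha hb).eq)

theorem Base.le_centralizer (hB : Base G p E) {x : G} (hx : x ∈ E) :
    E ≤ centralizer ({x} : Set G) := fun _ he => mem_centralizer_singleton_iff.mpr (hB.comm he hx).eq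

theorem Base.centralizer_le (hB : Base G p E) : E ≤ centralizer (E : Set G) :=
  fun _ he => mem_centralizer_iff.mpr fun _ ha => (hB.comm ha he).eq

theorem isPGroup_zpowers_of_pow [Fact p.Prime] {u : G} (h : u ^ p = 1) : IsPGroup p (zpowers u) := by
  intro ⟨x, hx⟩
  obtain ⟨i, rfl⟩ := mem_zpowers_iff.mp hx
  refine ⟨1, Subtype.ext ?_⟩
  simp only [pow_one, SubmonoidClass.mk_pow, OneMemClass.coe_one]
  rw [← zpow_natCast, ← zpow_mul, mul_comm, zpow_mul, zpow_natCast, h, one_zpow]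

variable [Finite G] [Fact p.Prime]

/-- The conjugates of elements of `E` in a `p`-subgroup lie in one conjugate of `E`. -/
theorem Base.inC_in_pgroup (hB : Base G p E) {Q : Subgroup G} (hQ : IsPGroup p Q) :
    ∃ h : G, ∀ u ∈ Q, InC E u → u ∈ cj h E := by
  obtain ⟨P, -, hP⟩ := hB.fus
  obtain ⟨P', hP'⟩ := hQ.exists_le_sylow
  obtain ⟨h, rfl⟩ := MulAction.exists_smul_eq G P P'
  refine ⟨h, fun u hu ⟨_, a, e, he, hue⟩ => mem_cj_iff.mpr ?_⟩
  obtain ⟨y, hy, hyu⟩ := hP' hu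
  have hy' : h⁻¹ * u * h = y := by
    rw [← show h * y * h⁻¹ = u from hyu]; group
  have e1 : (h⁻¹ * a) * e * (h⁻¹ * a)⁻¹ = h⁻¹ * u * h := by rw [hue]; group
  have h1 := hP e he (h⁻¹ * a) (by rw [e1, hy']; exact hy)
  rwa [e1] at h1

/-- A conjugate of `E` inside a `p`-subgroup contains every other conjugate of an element there. -/
theorem Base.inC_mem (hB : Base G p E) {Q : Subgroup G} (hQ : IsPGroup p Q) {g : G}
    (hg : cj g E ≤ Q) {u : G} (hu : u ∈ Q) (hC : InC E u) : u ∈ cj g E := by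
  obtain ⟨h, hh⟩ := hB.inC_in_pgroup hQ
  have hle : cj g E ≤ cj h E := fun y hy => by
    by_cases hy1 : y = 1
    · exact hy1 ▸ one_mem _
    · exact hh y (hg hy) (inC_of_mem_cj hy hy1)
  have he : cj g E = cj h E :=
    eq_of_le_of_card_ge hle (le_of_eq ((card_cj h E).trans (card_cj g E).symm))
  exact he ▸ hh u hu hC

/-- Conjugates of elements of `E` lie in `O_{p',p}` of every proper subgroup. -/
theorem Base.mem_pp (hB : Base G p E) {L : Subgroup G} (hL : L ≠ ⊤) {u : G} (hu : u ∈ L)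
    (hC : InC E u) : (⟨u, hu⟩ : L) ∈ Cfsg.pPrimePCore p ↥L := by
  haveI := hB.sol L hL
  obtain ⟨S, hS⟩ := (isPGroup_zpowers_of_pow (p := p) (u := (⟨u, hu⟩ : L))
    (Subtype.ext (by simpa using hC.pow_eq hB))).exists_le_sylow
  obtain ⟨h, hh⟩ := hB.inC_in_pgroup (S.isPGroup'.map L.subtype)
  let A : Subgroup L := closure {v : L | v ∈ (S : Subgroup L) ∧ InC E (v : G)}
  have hAS : A ≤ (S : Subgroup L) := (closure_le _).mpr fun v hv => hv.1
  have hAh : A ≤ (cj h E).comap L.subtype :=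
    (closure_le _).mpr fun v hv => hh _ (mem_map_of_mem _ hv.1) hv.2
  have hSA : (S : Subgroup L) ≤ normalizer (A : Set L) := by
    rw [le_normalizer_closure_iff]
    intro s hs v hv
    exact subset_closure ⟨mul_mem (mul_mem hs hv.1) (inv_mem hs), hv.2.conj (s : G)⟩
  have hA : A ≤ centralizer (A : Set L) := fun a ha => mem_centralizer_iff.mpr fun b hb =>
    Subtype.ext (InC.cj_comm hB (hAh hb) (hAh ha)).eq
  exact abelian_le_pPrimePCore hB.five S hAS hSA hA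
    (subset_closure ⟨hS (mem_zpowers _), hC⟩)

/-- Two `p`-subgroups inside `O_{p',p}(L)`: one is conjugated by `T L` next to the other. -/
theorem conj_pair {L : Subgroup G} {Q1 Q2 : Subgroup G} (h1L : Q1 ≤ L) (h2L : Q2 ≤ L)
    (h1 : IsPGroup p Q1) (h2 : IsPGroup p Q2)
    (h1N : ∀ x, ∀ hx : x ∈ L, x ∈ Q1 → (⟨x, hx⟩ : L) ∈ Cfsg.pPrimePCore p ↥L)
    (h2N : ∀ x, ∀ hx : x ∈ L, x ∈ Q2 → (⟨x, hx⟩ : L) ∈ Cfsg.pPrimePCore p ↥L) :
    ∃ t ∈ T p L, ∃ Q : Subgroup G, IsPGroup p Q ∧ Q2 ≤ Q ∧ ∀ x ∈ Q1, t * x * t⁻¹ ∈ Q := by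
  haveI := H1.pPrimeCore_normal' p ↥L
  haveI := H1.pCore_normal' p (↥L ⧸ Cfsg.pPrimeCore p ↥L)
  set N := Cfsg.pPrimePCore p ↥L with hN
  let ι : ↥N →* G := L.subtype.comp N.subtype
  have hι : Function.Injective ι := L.subtype_injective.comp N.subtype_injective
  have key : ∀ Q : Subgroup G, Q ≤ L → IsPGroup p Q →
      (∀ x, ∀ hx : x ∈ L, x ∈ Q → (⟨x, hx⟩ : L) ∈ N) →
      ∃ S : Sylow p ↥N, Q ≤ (S : Subgroup ↥N).map ι := by
    intro Q hQL hQ hQN
    obtain ⟨S, hS⟩ := (hQ.comap_of_injective ι hι).exists_le_sylow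
    exact ⟨S, fun x hx => ⟨⟨⟨x, hQL hx⟩, hQN x _ hx⟩, hS (show ι _ ∈ Q from hx), rfl⟩⟩
  obtain ⟨S1, hS1⟩ := key Q1 h1L h1 h1N
  obtain ⟨S2, hS2⟩ := key Q2 h2L h2 h2N
  obtain ⟨n, hn⟩ := MulAction.exists_smul_eq ↥N S1 S2
  let f : ↥N →* (↥L ⧸ Cfsg.pPrimeCore p ↥L) :=
    (QuotientGroup.mk' (Cfsg.pPrimeCore p ↥L)).comp N.subtype
  have hfr : IsPGroup p f.range := by
    refine (H1.isPGroup_pCore p _).to_le ?_
    rintro _ ⟨m, rfl⟩
    exact m.2
  have htop : f.ker ⊔ (S2 : Subgroup ↥N) = ⊤ := by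
    have hd1 : (f.ker ⊔ (S2 : Subgroup ↥N)).index ∣ Nat.card f.range := by
      rw [← Subgroup.index_ker f]; exact index_dvd_of_le le_sup_left
    have hd2 : (f.ker ⊔ (S2 : Subgroup ↥N)).index ∣ (S2 : Subgroup ↥N).index :=
      index_dvd_of_le le_sup_right
    obtain ⟨k, hk⟩ := hfr.exists_card_eq
    rw [hk] at hd1
    have hcop : Nat.Coprime (p ^ k) (S2 : Subgroup ↥N).index :=
      Nat.Coprime.pow_left k (((Fact.out : p.Prime).coprime_iff_not_dvd).mpr S2.not_dvd_index)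
    exact index_eq_one.mp (Nat.eq_one_of_dvd_coprimes hcop hd1 hd2)
  have hnmem : n ∈ (S2 : Subgroup ↥N) ⊔ f.ker := by
    rw [sup_comm, htop]; exact mem_top n
  rw [← SetLike.mem_coe, mul_normal] at hnmem
  obtain ⟨s, hs, t, ht, rfl⟩ := hnmem
  have htT : ι t ∈ T p L :=
    ⟨(t : L), (QuotientGroup.eq_one_iff _).mp (MonoidHom.mem_ker.mp ht), rfl⟩
  refine ⟨ι t, htT, (S2 : Subgroup ↥N).map ι, S2.isPGroup'.map ι, hS2, fun x hx => ?_⟩
  obtain ⟨y, hy, rfl⟩ := hS1 hx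
  refine ⟨t * y * t⁻¹, ?_, by simp only [map_mul, map_inv]⟩
  have hsy : (s * t) * y * (s * t)⁻¹ ∈ (S2 : Subgroup ↥N) := by
    rw [← hn]
    exact ⟨y, hy, rfl⟩
  have := mul_mem (mul_mem (inv_mem hs) hsy) hs
  rw [show s⁻¹ * ((s * t) * y * (s * t)⁻¹) * s = t * y * t⁻¹ by group] at this
  exact this

/-- Two conjugates of elements of `E` in a proper `L` commute up to `T L`. -/
theorem Base.exists_commute (hB : Base G p E) {L : Subgroup G} (hL : L ≠ ⊤) {u v : G}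
    (hu : u ∈ L) (hv : v ∈ L) (hCu : InC E u) (hCv : InC E v) :
    ∃ t ∈ T p L, Commute u (t * v * t⁻¹) := by
  have key : ∀ w, w ∈ L → InC E w → ∀ x, ∀ hx : x ∈ L, x ∈ zpowers w →
      (⟨x, hx⟩ : L) ∈ Cfsg.pPrimePCore p ↥L := by
    intro w hw hCw x hx hxw
    obtain ⟨i, rfl⟩ := mem_zpowers_iff.mp hxw
    exact zpow_mem (hB.mem_pp hL hw hCw) i
  obtain ⟨t, ht, Q, hQ, hQu, hQv⟩ := conj_pair (zpowers_le.mpr hv) (zpowers_le.mpr hu)
    (isPGroup_zpowers_of_pow (hCv.pow_eq hB)) (isPGroup_zpowers_of_pow (hCu.pow_eq hB))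
    (key v hv hCv) (key u hu hCu)
  obtain ⟨h, hh⟩ := hB.inC_in_pgroup hQ
  exact ⟨t, ht, InC.cj_comm hB (hh u (hQu (mem_zpowers u)) hCu)
    (hh _ (hQv v (mem_zpowers v)) (hCv.conj t))⟩

theorem Base.cj_mem_pp (hB : Base G p E) {L : Subgroup G} (hL : L ≠ ⊤) {g : G} (hg : cj g E ≤ L)
    (x : G) (hx : x ∈ L) (hxg : x ∈ cj g E) : (⟨x, hx⟩ : L) ∈ Cfsg.pPrimePCore p ↥L := by
  by_cases h1 : x = 1
  · subst h1; exact one_mem (Cfsg.pPrimePCore p ↥L)
  · exact hB.mem_pp hL hx (inC_of_mem_cj hxg h1)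

/-- A conjugate of an element of `E` in a proper `L ≥ gEg⁻¹` is moved into `gEg⁻¹` by `T L`. -/
theorem Base.exists_into (hB : Base G p E) {L : Subgroup G} (hL : L ≠ ⊤) {g : G}
    (hg : cj g E ≤ L) {u : G} (hu : u ∈ L) (hC : InC E u) :
    ∃ t ∈ T p L, t * u * t⁻¹ ∈ cj g E := by
  obtain ⟨t, ht, Q, hQ, hQE, hQu⟩ := conj_pair (zpowers_le.mpr hu) hg
    (isPGroup_zpowers_of_pow (hC.pow_eq hB)) (hB.isPGroup.map _)
    (fun x hx hxu => by
      obtain ⟨i, rfl⟩ := mem_zpowers_iff.mp hxu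
      exact zpow_mem (hB.mem_pp hL hu hC) i)
    (hB.cj_mem_pp hL hg)
  exact ⟨t, ht, hB.inC_mem hQ hQE (hQu u (mem_zpowers u)) (hC.conj t)⟩

/-- Conjugates of `E` in a proper subgroup are conjugate under its core `T`. -/
theorem Base.exists_conj (hB : Base G p E) {L : Subgroup G} (hL : L ≠ ⊤) {g h : G}
    (hg : cj g E ≤ L) (hh : cj h E ≤ L) : ∃ t ∈ T p L, cj t (cj g E) = cj h E := by
  obtain ⟨t, ht, Q, hQ, hQh, hQg⟩ := conj_pair hg hh (hB.isPGroup.map _) (hB.isPGroup.map _)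
    (hB.cj_mem_pp hL hg) (hB.cj_mem_pp hL hh)
  refine ⟨t, ht, eq_of_le_of_card_ge ?_ ?_⟩
  · rintro _ ⟨x, hx, rfl⟩
    by_cases h1 : x = 1
    · subst h1; rw [map_one]; exact one_mem _
    · exact hB.inC_mem hQ hQh (hQg x hx) ((inC_of_mem_cj hx h1).conj t)
  · rw [card_cj, card_cj, card_cj]

/-- A `p'`-subgroup normalised by a conjugate `u` of an element of `E`. -/
theorem Base.commutator_mem (hB : Base G p E) {L Y : Subgroup G} (hL : L ≠ ⊤) (hY : Y ≤ L)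
    (hYp : ¬ p ∣ Nat.card Y) {u : G} (hu : u ∈ L) (hC : InC E u)
    (huY : u ∈ normalizer (Y : Set G)) {y : G} (hy : y ∈ Y) : ⁅y, u⁆ ∈ T p L := by
  haveI := H1.pPrimeCore_normal' p ↥L
  haveI := H1.pCore_normal' p (↥L ⧸ Cfsg.pPrimeCore p ↥L)
  set f := QuotientGroup.mk' (Cfsg.pPrimeCore p ↥L)
  have hfu : f ⟨u, hu⟩ ∈ Cfsg.pCore p (↥L ⧸ Cfsg.pPrimeCore p ↥L) := hB.mem_pp hL hu hC
  have hcY : ⁅y, u⁆ ∈ Y := by
    have e : ⁅y, u⁆ = y * (u * y⁻¹ * u⁻¹) := by rw [commutatorElement_def]; group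
    rw [e]
    exact mul_mem hy ((mem_normalizer_iff.mp huY _).mp (inv_mem hy))
  refine ⟨⟨⁅y, u⁆, hY hcY⟩, (QuotientGroup.eq_one_iff _).mp ?_, rfl⟩
  have he : (⟨⁅y, u⁆, hY hcY⟩ : L) = ⁅(⟨y, hY hy⟩ : L), ⟨u, hu⟩⁆ := Subtype.ext rfl
  have h1 : f ⟨⁅y, u⁆, hY hcY⟩ ∈ Cfsg.pCore p (↥L ⧸ Cfsg.pPrimeCore p ↥L) := by
    rw [he, map_commutatorElement, commutatorElement_def]
    exact mul_mem ((inferInstance : (Cfsg.pCore p (↥L ⧸ Cfsg.pPrimeCore p ↥L)).Normal).conj_mem _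
      hfu (f ⟨y, hY hy⟩)) (inv_mem hfu)
  have h2 : f ⟨⁅y, u⁆, hY hcY⟩ ∈ (Y.subgroupOf L).map f :=
    mem_map_of_mem f (show (⟨⁅y, u⁆, hY hcY⟩ : L) ∈ Y.subgroupOf L from hcY)
  have hd : ¬ p ∣ Nat.card ((Y.subgroupOf L).map f) := fun hd => hYp (by
    have := hd.trans (Subgroup.card_map_dvd (Y.subgroupOf L) f)
    rwa [Nat.card_congr (subgroupOfEquivOfLe hY).toEquiv] at this)
  obtain ⟨k, hk⟩ := IsPGroup.iff_orderOf.mp (H1.isPGroup_pCore p _) ⟨_, h1⟩
  rw [orderOf_mk] at hk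
  have : orderOf (f ⟨⁅y, u⁆, hY hcY⟩) ∣ Nat.card ((Y.subgroupOf L).map f) :=
    orderOf_dvd_natCard _ h2
  rw [hk] at this
  rcases k with _ | k
  · exact orderOf_eq_one_iff.mp (hk.trans (pow_zero p))
  · exact absurd ((dvd_pow_self p (Nat.succ_ne_zero k)).trans this) hd

/-- `[Y, A] ≤ T L` for `A` made of conjugates of elements of `E`. -/
theorem Base.commutator_le (hB : Base G p E) {L Y A : Subgroup G} (hL : L ≠ ⊤) (hY : Y ≤ L)
    (hYp : ¬ p ∣ Nat.card Y) (hA : A ≤ L) (hAC : ∀ a ∈ A, a ≠ 1 → InC E a)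
    (hAY : A ≤ normalizer (Y : Set G)) : ⁅Y, A⁆ ≤ T p L := by
  rw [Subgroup.commutator_le]
  intro y hy a ha
  by_cases h1 : a = 1
  · subst h1; rw [commutatorElement_one_right]; exact one_mem _
  · exact hB.commutator_mem hL hY hYp (hA ha) (hAC a ha h1) (hAY ha) hy

theorem Base.inC_zpowers (hB : Base G p E) {u : G} (hu : InC E u) :
    ∀ a ∈ zpowers u, a ≠ 1 → InC E a := by
  obtain ⟨-, g, e, he, rfl⟩ := hu
  intro a ha ha1
  refine inC_of_mem_cj (g := g) ?_ ha1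
  exact (zpowers_le.mpr (mem_cj he)) ha

theorem Base.inC_self (_hB : Base G p E) : ∀ a ∈ E, a ≠ 1 → InC E a := fun _ ha => inC_of_mem ha

/-- The core of the centraliser of an element. -/
abbrev theta (p : ℕ) (x : G) : Subgroup G := T p (centralizer ({x} : Set G))

theorem theta_commute {x c : G} (hc : c ∈ theta p x) : Commute c x :=
  mem_centralizer_singleton_iff.mp (T_le p _ hc)

theorem theta_conj_mem {n x c : G} (hc : c ∈ theta p x) :
    n * c * n⁻¹ ∈ theta p (n * x * n⁻¹) := by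
  have h := T_mem_of_conj (p := p) n hc
  have e : (centralizer ({x} : Set G)).map (MulAut.conj n).toMonoidHom =
      centralizer ({n * x * n⁻¹} : Set G) := by
    ext y
    rw [Subgroup.mem_centralizer_singleton_iff]
    constructor
    · rintro ⟨z, hz, rfl⟩
      exact ((show Commute z x from Subgroup.mem_centralizer_singleton_iff.mp hz).map
        (MulAut.conj n).toMonoidHom).eq
    · intro hy
      refine ⟨n⁻¹ * y * n, Subgroup.mem_centralizer_singleton_iff.mpr ?_,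
        by show n * (n⁻¹ * y * n) * n⁻¹ = y; group⟩
      have := (show Commute y (n * x * n⁻¹) from hy).map (MulAut.conj n⁻¹).toMonoidHom
      simpa [mul_assoc] using this.eq
  rwa [e] at h

/-- A conjugate of an element of `E` commuting with `x ∈ E` is moved into `E` by `theta x`. -/
theorem Base.into_of_commute (hB : Base G p E) {x v : G} (hx : x ∈ E) (hx1 : x ≠ 1)
    (hv : InC E v) (hxv : Commute v x) : ∃ c ∈ theta p x, c * v * c⁻¹ ∈ E := by
  have e : cj (1 : G) E = E := by ext y; simp [mem_cj_iff]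
  obtain ⟨c, hc, h⟩ := hB.exists_into (hB.toSetup.centralizer_ne_top hx1) (g := 1)
    (by rw [e]; exact hB.le_centralizer hx) (mem_centralizer_singleton_iff.mpr hxv.eq) hv
  exact ⟨c, hc, e ▸ h⟩

/-- `C(x) = theta x · (C(x) ∩ N(E))`. -/
theorem Base.theta_mul_normalizer (hB : Base G p E) {x g : G} (hx : x ∈ E) (hx1 : x ≠ 1)
    (hg : Commute g x) : ∃ c ∈ theta p x, c * g ∈ normalizer (E : Set G) := by
  have e : cj (1 : G) E = E := by ext y; simp [mem_cj_iff]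
  obtain ⟨c, hc, h⟩ := hB.exists_conj (hB.toSetup.centralizer_ne_top hx1) (g := g) (h := 1)
    (by
      rintro _ ⟨y, hy, rfl⟩
      refine mem_centralizer_singleton_iff.mpr ?_
      have h1 := (hB.comm hy hx).map (MulAut.conj g).toMonoidHom
      have e1 : (MulAut.conj g).toMonoidHom x = x := by
        show g * x * g⁻¹ = x
        rw [hg.eq, mul_inv_cancel_right]
      rw [e1] at h1
      exact h1.eq)
    (by rw [e]; exact hB.le_centralizer hx)
  refine ⟨c, hc, mem_normalizer_iff_map_conj_eq.mpr ?_⟩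
  rw [e] at h
  refine Eq.trans ?_ h
  rw [cj, cj, map_map]
  congr 1
  ext y
  simp [mul_assoc]

/-- The pair lemma. -/
theorem Base.pair (hB : Base G p E) {x y : G} (hx : InC E x) (hy : InC E y) :
    ∃ s ∈ ⁅T p (closure ({x, y} : Set G)), zpowers x⁆,
      ∃ v ∈ closure ({x, y} : Set G), InC E v ∧ Commute x v ∧ y = s * v * s⁻¹ := by
  set D := closure ({x, y} : Set G)
  have hD : D ≠ ⊤ := hB.gen x y
  have hxD : x ∈ D := subset_closure (Set.mem_insert _ _)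
  have hyD : y ∈ D := subset_closure (Set.mem_insert_of_mem _ rfl)
  obtain ⟨t, ht, hcomm⟩ := hB.exists_commute hD hxD hyD hx hy
  obtain ⟨s, hs, c, hcT, hc, he⟩ := exists_decomp (isPGroup_zpowers_of_pow (hx.pow_eq hB))
    ((zpowers_le.mpr hxD).trans (le_normalizer_T p D)) (not_dvd_card_T p D) (inv_mem ht)
  have hcx : Commute c x := (mem_centralizer_iff.mp hc x (mem_zpowers x)).symm
  refine ⟨s, hs, c * (t * y * t⁻¹) * c⁻¹, ?_, (hy.conj t).conj c, ?_, ?_⟩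
  · exact mul_mem (mul_mem (T_le p D hcT) (mul_mem (mul_mem (T_le p D ht) hyD)
      (inv_mem (T_le p D ht)))) (inv_mem (T_le p D hcT))
  · have h1 := hcomm.map (MulAut.conj c).toMonoidHom
    have e1 : (MulAut.conj c).toMonoidHom x = x := by
      show c * x * c⁻¹ = x
      rw [hcx.eq, mul_inv_cancel_right]
    rwa [e1] at h1
  · have e2 : t = c⁻¹ * s⁻¹ := by rw [← mul_inv_rev, ← he, inv_inv]
    rw [e2]; group

end H83.TwoGen
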