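import Cfsg.Agent.H83.TwoGenSol.PlaneMax

/-!
`E` of order `p ^ 2` without an invariant line is impossible.
-/

set_option autoImplicit false
set_option linter.style.haveILetI false
set_option linter.unusedSectionVars false

namespace H83.TwoGen

open Subgroup H82
open scoped commutatorElement

universe u

variable {G : Type u} [Group G] [Finite G] {p : ℕ} [Fact p.Prime] {E : Subgroup G}

/-- An `E`-invariant `q`-subgroup. -/
structure InvQ (q : ℕ) (E R : Subgroup G) : Prop where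
  isPGroup : IsPGroup q R
  le_norm : E ≤ normalizer (R : Set G)

theorem InvQ.map {q : ℕ} {R : Subgroup G} (h : InvQ q E R) {n : G}
    (hn : n ∈ normalizer (E : Set G)) : InvQ q E (cj n R) := by
  refine ⟨h.isPGroup.map _, ?_⟩
  have h1 := cj_le_cj (a := n) h.le_norm
  rw [cj_eq_of_mem hn] at h1
  refine h1.trans ?_
  exact le_normalizer_map _

theorem maximal_cj {q : ℕ} {R : Subgroup G} (h : Maximal (InvQ q E) R) {n : G}
    (hn : n ∈ normalizer (E : Set G)) : Maximal (InvQ q E) (cj n R) := by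
  refine ⟨h.prop.map hn, fun R' hR' hle => ?_⟩
  have h1 := h.le_of_ge (hR'.map (inv_mem hn)) (by
    have := cj_le_cj (a := n⁻¹) hle
    rwa [cj_cj, inv_mul_cancel, cj_one] at this)
  have := cj_le_cj (a := n) h1
  rwa [cj_cj, mul_inv_cancel, cj_one] at this

/-- An `E`-invariant `q`-subgroup of a proper `L ≥ E` lies in `T L`. -/
theorem Conn.invQ_le_T (hC : Conn G p E) {q : ℕ} [Fact q.Prime] (hqp : q ≠ p)
    (hCq : ¬ q ∣ Nat.card (centralizer (E : Set G))) {L R : Subgroup G} (hL : L ≠ ⊤) (hEL : E ≤ L)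
    (hR : InvQ q E R) (hRL : R ≤ L) : R ≤ T p L := by
  have hRp : ¬ p ∣ Nat.card R := fun h => hqp (by
    obtain ⟨k, hk⟩ := hR.isPGroup.exists_card_eq
    rw [hk] at h
    exact ((Nat.prime_dvd_prime_iff_eq Fact.out Fact.out).mp
      ((Fact.out : p.Prime).dvd_of_dvd_pow h)).symm)
  intro r hr
  obtain ⟨a, ha, c, hcR, hc, rfl⟩ := exists_decomp hC.toBase.isPGroup hR.le_norm hRp hr
  obtain ⟨j, hj⟩ := exists_pow_eq_one_of_mem hR.isPGroup hcR
  have h1 : orderOf c ∣ Nat.gcd (Nat.card (centralizer (E : Set G))) (orderOf c) :=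
    Nat.dvd_gcd (Subgroup.orderOf_dvd_natCard _ hc) dvd_rfl
  rw [(coprime_card_of_pow hj hCq).gcd_eq_one, Nat.dvd_one, orderOf_eq_one_iff] at h1
  rw [h1, mul_one]
  exact hC.toBase.commutator_le hL hRL hRp hEL hC.toBase.inC_self hR.le_norm ha

variable (hC : Conn G p E) (hcard : Nat.card E = p ^ 2)

include hC hcard

/-- Nontrivial maximal `E`-invariant `q`-subgroups are conjugate under `C(E)`. -/
theorem Conn.invQ_conj {q : ℕ} [Fact q.Prime] (hqp : q ≠ p)
    (hCq : ¬ q ∣ Nat.card (centralizer (E : Set G))) {R1 R2 : Subgroup G}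
    (h1 : Maximal (InvQ q E) R1) (h2 : Maximal (InvQ q E) R2) :
    ∃ c ∈ centralizer (E : Set G), cj c R1 = R2 := by
  classical
  by_contra hne
  have hB := hC.toBase
  obtain ⟨⟨R1, R2⟩, ⟨h1, h2, hne⟩, hmax⟩ := Set.Finite.exists_maximalFor
    (fun r : Subgroup G × Subgroup G => Nat.card ↥(r.1 ⊓ r.2))
    {r : Subgroup G × Subgroup G | Maximal (InvQ q E) r.1 ∧ Maximal (InvQ q E) r.2 ∧
      ¬ ∃ c ∈ centralizer (E : Set G), cj c r.1 = r.2}
    (Set.toFinite _) ⟨(R1, R2), h1, h2, hne⟩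
  dsimp only at h1 h2 hne
  set I := R1 ⊓ R2
  have hbigger : ∀ {A B : Subgroup G}, Maximal (InvQ q E) A → Maximal (InvQ q E) B →
      Nat.card I < Nat.card ↥(A ⊓ B) → ∃ c ∈ centralizer (E : Set G), cj c A = B := by
    intro A B hA hB' hlt
    by_contra hn
    have := hmax (j := (A, B)) ⟨hA, hB', hn⟩ hlt.le
    exact absurd this (not_le.mpr hlt)
  have hlt : ∀ {A B : Subgroup G}, A ≤ B → A ≠ B → Nat.card A < Nat.card B := fun hAB hne' =>
    lt_of_le_of_ne (Subgroup.card_le_of_le hAB) fun e => hne' (eq_of_le_of_card_ge hAB e.ge)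
  have hI1 : I ≠ R1 := fun h => hne ⟨1, one_mem _, by
    rw [cj_one]
    exact le_antisymm (h ▸ inf_le_right) (h1.le_of_ge h2.prop (h ▸ inf_le_right))⟩
  have hI2 : I ≠ R2 := fun h => hne ⟨1, one_mem _, by
    rw [cj_one]
    exact le_antisymm (h2.le_of_ge h1.prop (h ▸ inf_le_left)) (h ▸ inf_le_left)⟩
  -- a proper `L ≥ E` meeting both above `I`
  obtain ⟨L, hL, hEL, hL1, hL2⟩ : ∃ L : Subgroup G, L ≠ ⊤ ∧ E ≤ L ∧
      Nat.card I < Nat.card ↥(R1 ⊓ L) ∧ Nat.card I < Nat.card ↥(R2 ⊓ L) := by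
    by_cases hI : I = ⊥
    swap
    · have hIq : IsPGroup q I := h1.prop.isPGroup.to_le inf_le_left
      refine ⟨normalizer (I : Set G), hC.toSetup.normalizer_ne_top hI
        (hC.toSetup.ne_top_of_not_dvd fun h => hqp ?_),
        H8.le_normalizer_inf h1.prop.le_norm h2.prop.le_norm, ?_, ?_⟩
      · obtain ⟨k, hk⟩ := hIq.exists_card_eq
        rw [hk] at h
        exact ((Nat.prime_dvd_prime_iff_eq Fact.out Fact.out).mp
          ((Fact.out : p.Prime).dvd_of_dvd_pow h)).symm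
      · have h := exists_normalizer_gt h1.prop.isPGroup (lt_of_le_of_ne inf_le_left hI1)
        exact hlt h.le h.ne
      · have h := exists_normalizer_gt h2.prop.isPGroup (lt_of_le_of_ne inf_le_right hI2)
        exact hlt h.le h.ne
    · have hfix : ∀ {R : Subgroup G}, InvQ q E R → R ≠ ⊥ →
          ∃ u ∈ E, u ≠ 1 ∧ ∃ d ∈ R, d ≠ 1 ∧ Commute u d := by
        intro R hR hR1
        by_contra h
        push Not at h
        refine hR1 (le_bot_iff.mp (H8.generation_elements hB.elem hcard.ge hR.le_norm (fun hd => ?_)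
          fun a ha ha1 k hk => ?_))
        · obtain ⟨k, hk⟩ := hR.isPGroup.exists_card_eq
          rw [hk] at hd
          exact hqp ((Nat.prime_dvd_prime_iff_eq Fact.out Fact.out).mp
            ((Fact.out : p.Prime).dvd_of_dvd_pow hd)).symm
        · rw [mem_bot]
          by_contra hk1
          exact h a ha ha1 k hk.1 hk1 (mem_centralizer_singleton_iff.mp hk.2).symm
      obtain ⟨u, hu, hu1, d, hd, hd1, hud⟩ := hfix h1.prop fun h => hI1 (hI.trans h.symm)
      obtain ⟨v, hv, hv1, e, he, he1, hve⟩ := hfix h2.prop fun h => hI2 (hI.trans h.symm)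
      have hcop : ∀ {R : Subgroup G}, InvQ q E R → ∀ {r : G}, r ∈ R → ∀ {y : G}, y ∈ E →
          (orderOf y).Coprime (orderOf r) := fun {R} hR {r} hr {y} hy => by
        obtain ⟨j, hj⟩ := exists_pow_eq_one_of_mem hR.isPGroup hr
        refine coprime_orders (hB.pow_eq hy) fun hd => hqp ?_
        exact ((Nat.prime_dvd_prime_iff_eq Fact.out Fact.out).mp
          ((Fact.out : p.Prime).dvd_of_dvd_pow (hd.trans (orderOf_dvd_of_pow_eq_one hj)))).symm
      obtain ⟨L, hL, hEL, hdL, heL⟩ : ∃ L : Subgroup G, L ≠ ⊤ ∧ E ≤ L ∧ d ∈ L ∧ e ∈ L := by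
        by_cases hvu : v ∈ zpowers u
        · refine ⟨centralizer ({u} : Set G), hC.toSetup.centralizer_ne_top hu1, hB.le_centralizer hu,
            mem_centralizer_singleton_iff.mpr hud.symm.eq, ?_⟩
          rw [← centralizer_eq_of_mem_zpowers (hB.pow_eq hu) hvu hv1]
          exact mem_centralizer_singleton_iff.mpr hve.symm.eq
        · set L := closure ({u * d, v * e} : Set G)
          have hud' : u * d ∈ L := subset_closure (Set.mem_insert _ _)
          have hve' : v * e ∈ L := subset_closure (Set.mem_insert_of_mem _ rfl)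
          exact ⟨L, hC.gen _ _,
            hB.le_of_two hcard hu hu1 hv hvu (left_mem_of_mul_mem hud (hcop h1.prop hd hu) hud')
              (left_mem_of_mul_mem hve (hcop h2.prop he hv) hve'),
            right_mem_of_mul_mem hud (hcop h1.prop hd hu) hud',
            right_mem_of_mul_mem hve (hcop h2.prop he hv) hve'⟩
      refine ⟨L, hL, hEL, ?_, ?_⟩ <;> rw [hI]
      · refine hlt bot_le (Ne.symm fun h => hd1 ?_)
        rw [← mem_bot, ← h]
        exact ⟨hd, hdL⟩
      · refine hlt bot_le (Ne.symm fun h => he1 ?_)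
        rw [← mem_bot, ← h]
        exact ⟨he, heL⟩
  have hEN : E ≤ normalizer (L : Set G) := hEL.trans le_normalizer
  have hi1 : InvQ q E (R1 ⊓ L) :=
    ⟨h1.prop.isPGroup.to_le inf_le_left, H8.le_normalizer_inf h1.prop.le_norm hEN⟩
  have hi2 : InvQ q E (R2 ⊓ L) :=
    ⟨h2.prop.isPGroup.to_le inf_le_left, H8.le_normalizer_inf h2.prop.le_norm hEN⟩
  have hET : E ≤ normalizer (T p L : Set G) := hEL.trans (le_normalizer_T p L)
  obtain ⟨Q1, hQ1, hEQ1, hle1⟩ := H8.exists_inv_sylowIn_ge (q := q) hB.isPGroup hET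
    (not_dvd_card_T p L) hi1.isPGroup (hC.invQ_le_T hqp hCq hL hEL hi1 inf_le_right) hi1.le_norm
  obtain ⟨Q2, hQ2, hEQ2, hle2⟩ := H8.exists_inv_sylowIn_ge (q := q) hB.isPGroup hET
    (not_dvd_card_T p L) hi2.isPGroup (hC.invQ_le_T hqp hCq hL hEL hi2 inf_le_right) hi2.le_norm
  obtain ⟨c, ⟨-, hc⟩, hc12⟩ :=
    H8.inv_sylowIn_conj hB.isPGroup hET (not_dvd_card_T p L) hQ1 hEQ1 hQ2 hEQ2
  obtain ⟨R3, hQR3, hR3⟩ := Set.Finite.exists_le_maximal
    (Set.toFinite {R : Subgroup G | InvQ q E R}) (show Q2 ∈ {R : Subgroup G | InvQ q E R} from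
      ⟨hQ2.isPGroup, hEQ2⟩)
  have hR3' : Maximal (InvQ q E) R3 := hR3
  have hcN := centralizer_le_normalizer (E : Set G) hc
  have hl1 : Nat.card I < Nat.card ↥(cj c R1 ⊓ R3) := by
    refine lt_of_lt_of_le (hL1.trans_eq (card_cj c _).symm) (Subgroup.card_le_of_le ?_)
    exact le_inf (cj_le_cj inf_le_left) ((cj_le_cj hle1).trans (hc12.le.trans hQR3))
  have hl2 : Nat.card I < Nat.card ↥(R3 ⊓ R2) :=
    hL2.trans_le (Subgroup.card_le_of_le (le_inf (hle2.trans hQR3) inf_le_left))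
  obtain ⟨c2, hc2, e2⟩ := hbigger (maximal_cj h1 hcN) hR3' hl1
  obtain ⟨c3, hc3, e3⟩ := hbigger hR3' h2 hl2
  exact hne ⟨c3 * (c2 * c), mul_mem hc3 (mul_mem hc2 hc), by rw [← cj_cj, ← cj_cj, e2, e3]⟩

/-- No minimal counterexample has such an `E`. -/
theorem Conn.false_of_plane
    (hirr : ∀ x ∈ E, x ≠ 1 → ∃ n ∈ normalizer (E : Set G), n * x * n⁻¹ ∉ zpowers x) : False := by
  classical
  have hB := hC.toBase
  obtain ⟨q, hq, hqp, hCq, hdvd, R0, hR0, hR0q, hR0E⟩ := hC.exists_inv_qgroup hcard hirr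
  haveI : Fact q.Prime := ⟨hq⟩
  obtain ⟨R, hR0R, hR⟩ := Set.Finite.exists_le_maximal
    (Set.toFinite {R : Subgroup G | InvQ q E R}) (show R0 ∈ {R : Subgroup G | InvQ q E R} from
      ⟨hR0q, hR0E⟩)
  have hR' : Maximal (InvQ q E) R := hR
  have hR1 : R ≠ ⊥ := fun h => hR0 (le_bot_iff.mp (h ▸ hR0R))
  set J := normalizer (E : Set G) ⊓ normalizer (R : Set G) with hJdef
  have hsurj : Function.Surjective
      ((E.normalizerMonoidHom.comp (Subgroup.inclusion (inf_le_left : J ≤ _))).codRestrict (autos E)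
        fun _ => ⟨_, rfl⟩) := by
    rintro ⟨σ, hσ⟩
    obtain ⟨n, hn, rfl⟩ := exists_of_mem_autos hσ
    obtain ⟨c, hc, hcR⟩ := hC.invQ_conj hcard hqp hCq (maximal_cj hR' hn) hR'
    have hcN := centralizer_le_normalizer (E : Set G) hc
    have hJ : c * n ∈ J := Subgroup.mem_inf.mpr
      ⟨mul_mem hcN hn, mem_normalizer_iff_map_conj_eq.mpr (by rw [cj_cj] at hcR; exact hcR)⟩
    refine ⟨⟨c * n, hJ⟩, Subtype.ext ?_⟩
    show E.normalizerMonoidHom ⟨c * n, _⟩ = phi E n
    rw [← phi_eq_hom, phi_mul hcN hn, (phi_eq_one_iff hcN).mpr hc, one_mul]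
  obtain ⟨K, hK⟩ := H82.exists_sylowIn q J
  have hKR : K ≤ normalizer (R : Set G) := hK.le.trans inf_le_right
  have hRq := hR'.prop.isPGroup
  have hsup : IsPGroup q ↥(R ⊔ K) := hRq.to_sup_of_normal_left' hK.isPGroup hKR
  have hL : normalizer (R : Set G) ≠ ⊤ := hC.toSetup.normalizer_ne_top hR1
    (hC.toSetup.ne_top_of_not_dvd fun h => hqp (by
      obtain ⟨k, hk⟩ := hRq.exists_card_eq
      rw [hk] at h
      exact ((Nat.prime_dvd_prime_iff_eq Fact.out Fact.out).mp
        ((Fact.out : p.Prime).dvd_of_dvd_pow h)).symm))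
  have hdJ : Nat.card ↥(R ⊔ K) ∣ Nat.card J :=
    (hdvd _ hL hR'.prop.le_norm _ hsup (sup_le le_normalizer hKR)).trans
      (Subgroup.card_dvd_of_surjective _ hsurj)
  have e : K = R ⊔ K := by
    refine eq_of_le_of_card_ge le_sup_right ?_
    obtain ⟨i, hi⟩ := hsup.exists_card_eq
    rw [hi] at hdJ ⊢
    rw [hK.card_eq]
    exact Nat.pow_le_pow_right hq.pos ((hq.pow_dvd_iff_le_factorization Nat.card_pos.ne').mp hdJ)
  refine hR1 ((Subgroup.eq_bot_iff_forall R).mpr fun r hr => ?_)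
  have hrN : r ∈ normalizer (E : Set G) := (hK.le (e.ge (mem_sup_left hr))).1
  have hrC : r ∈ centralizer (E : Set G) := by
    refine mem_centralizer_iff.mpr fun a ha => ?_
    have h1 : ⁅r, a⁆ ∈ E := mul_mem ((mem_normalizer_iff.mp hrN a).mp ha) (inv_mem ha)
    have h2 : ⁅r, a⁆ ∈ R := by
      rw [commutatorElement_def, mul_assoc r a, mul_assoc r]
      exact mul_mem hr ((mem_normalizer_iff.mp (hR'.prop.le_norm ha) r⁻¹).mp (inv_mem hr))
    have h3 : ⁅r, a⁆ = 1 := by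
      by_contra hne
      obtain ⟨k, hk⟩ := exists_pow_eq_one_of_mem hRq h2
      have h := orderOf_dvd_of_pow_eq_one hk
      rw [orderOf_of_pow (hB.pow_eq h1) hne] at h
      exact hqp ((Nat.prime_dvd_prime_iff_eq Fact.out Fact.out).mp
        ((Fact.out : p.Prime).dvd_of_dvd_pow h)).symm
    exact (commutatorElement_eq_one_iff_mul_comm.mp h3).symm
  obtain ⟨j, hj⟩ := exists_pow_eq_one_of_mem hRq hr
  have h1 : orderOf r ∣ Nat.gcd (Nat.card (centralizer (E : Set G))) (orderOf r) :=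
    Nat.dvd_gcd (Subgroup.orderOf_dvd_natCard _ hrC) dvd_rfl
  rw [(coprime_card_of_pow hj hCq).gcd_eq_one, Nat.dvd_one, orderOf_eq_one_iff] at h1
  exact h1

end H83.TwoGen
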