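import Cfsg.Agent.H83.TwoGenSol.Reduce
import Cfsg.Agent.H83.TwoGenSol.Plane

/-!
A finite group in which every two elements generate a soluble subgroup is soluble.
-/

set_option autoImplicit false

namespace H83.TwoGen

universe u

theorem planeCase : PlaneCase.{u} := fun _ _ _ _ _ _ hC hcard hirr =>
  hC.false_of_plane hcard hirr

/-- Two-generator solubility implies solubility. -/
theorem solvable_of_twoGen (G : Type u) [Group G] [Finite G]
    (h : ∀ a b : G, Group.IsSolvable (Subgroup.closure ({a, b} : Set G))) : Group.IsSolvable G :=
  solvable_of_twoGen_of_plane planeCase (Nat.card G) G le_rfl h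

end H83.TwoGen
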