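import Cfsg.Agent.H83.TwoGenSol.Fmap
import Cfsg.Agent.H83.TwoGenSol.Rank
import Cfsg.Agent.H8.Coprime
import Cfsg.Agent.H68.ExtClosed.Basic

/-!
`E` of order `p ^ 2`: every element induces an automorphism of `E`, compatibly with conjugation.
-/

set_option autoImplicit false
set_option linter.style.haveILetI false
set_option linter.unusedSectionVars false

namespace H83.TwoGen

open Subgroup
open scoped commutatorElement

universe u

variable {G : Type u} [Group G] [Finite G] {p : ℕ} [Fact p.Prime] {E : Subgroup G}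

/-- Nontrivial powers of an element of order `p` have the same centraliser. -/
theorem centralizer_eq_of_mem_zpowers {x y : G} (hxp : x ^ p = 1) (hy : y ∈ zpowers x)
    (hy1 : y ≠ 1) : centralizer ({y} : Set G) = centralizer ({x} : Set G) := by
  have hxy : x ∈ zpowers y := mem_of_zpow_mem hxp hy hy1 (mem_zpowers y)
  ext w
  simp only [mem_centralizer_singleton_iff]
  constructor
  · intro h
    obtain ⟨i, hi⟩ := mem_zpowers_iff.mp hxy
    exact hi ▸ ((show Commute w y from h).zpow_right i).eq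
  · intro h
    obtain ⟨i, hi⟩ := mem_zpowers_iff.mp hy
    exact hi ▸ ((show Commute w x from h).zpow_right i).eq

theorem eq_one_of_pow_of_mem_T {L : Subgroup G} {a : G} (ha : a ^ p = 1) (hT : a ∈ T p L) :
    a = 1 := by
  by_contra h1
  exact not_dvd_orderOf_of_mem (not_dvd_card_T p L) hT (by rw [orderOf_of_pow ha h1])

theorem Base.exists_not_mem_zpowers (hB : Base G p E) (hcard : Nat.card E = p ^ 2) {x : G}
    (hx : x ∈ E) (hx1 : x ≠ 1) : ∃ z ∈ E, z ∉ zpowers x := by
  by_contra h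
  push Not at h
  have h1 := Subgroup.card_le_of_le h
  rw [Nat.card_zpowers, orderOf_of_pow (hB.pow_eq hx) hx1, hcard] at h1
  have hp : p ^ 1 < p ^ 2 := Nat.pow_lt_pow_right (Fact.out : p.Prime).one_lt (by omega)
  rw [pow_one] at hp
  omega

/-- A subgroup containing two independent elements of `E` contains `E`. -/
theorem Base.le_of_two (hB : Base G p E) (hcard : Nat.card E = p ^ 2) {x z : G} (hx : x ∈ E)
    (hx1 : x ≠ 1) (hz : z ∈ E) (hzx : z ∉ zpowers x) {L : Subgroup G} (hxL : x ∈ L) (hzL : z ∈ L) :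
    E ≤ L := by
  have hle : zpowers x ⊔ zpowers z ≤ E := sup_le (zpowers_le.mpr hx) (zpowers_le.mpr hz)
  refine le_trans (eq_of_le_of_card_ge hle ?_).ge (sup_le (zpowers_le.mpr hxL) (zpowers_le.mpr hzL))
  rw [hcard]
  exact sq_le_card (hB.isPGroup.to_le hle) (mem_sup_left (mem_zpowers x)) hx1 (hB.pow_eq hx)
    (mem_sup_right (mem_zpowers z)) hzx

/-- The subgroup of automorphisms fixing every cyclic subgroup. -/
def lines (E : Subgroup G) : Subgroup (MulAut ↥E) where
  carrier := {σ | ∀ e : ↥E, zpowers (σ e) = zpowers e}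
  one_mem' := fun _ => rfl
  mul_mem' := fun {a b} ha hb e => (ha (b e)).trans (hb e)
  inv_mem' := fun {a} ha e => by
    have h := ha (a⁻¹ e)
    rwa [← MulAut.mul_apply, mul_inv_cancel, MulAut.one_apply, eq_comm] at h

theorem lines_normal : (lines E).Normal := by
  refine ⟨fun a ha τ e => ?_⟩
  have h := congrArg (fun H : Subgroup ↥E => H.map τ.toMonoidHom) (ha (τ⁻¹ e))
  simp only [MonoidHom.map_zpowers, MulEquiv.coe_toMonoidHom] at h
  rw [MulAut.mul_apply, MulAut.mul_apply, h, ← MulAut.mul_apply, mul_inv_cancel, MulAut.one_apply]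

/-- An automorphism outside `lines` moves some line. -/
theorem Base.exists_moved (hB : Base G p E) {σ : MulAut ↥E} (hσ : σ ∉ lines E) :
    ∃ (x : G) (hx : x ∈ E), x ≠ 1 ∧ ((σ ⟨x, hx⟩ : ↥E) : G) ∉ zpowers x := by
  by_contra h
  push Not at h
  refine hσ fun e => ?_
  rcases eq_or_ne e 1 with rfl | he
  · rw [map_one]
  have he' : (e : G) ≠ 1 := fun h' => he (Subtype.ext h')
  apply map_injective E.subtype_injective
  rw [MonoidHom.map_zpowers, MonoidHom.map_zpowers]
  show zpowers ((σ e : ↥E) : G) = zpowers (e : G)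
  have hmem := h e e.2 he'
  refine le_antisymm (zpowers_le.mpr hmem) (zpowers_le.mpr (mem_of_zpow_mem (hB.pow_eq e.2) hmem ?_
    (mem_zpowers _)))
  exact fun h' => he (σ.injective (by rw [map_one]; exact Subtype.ext h'))

variable (hC : Conn G p E) (hcard : Nat.card E = p ^ 2)

include hC hcard

/-- A suitable `d ∈ theta x` makes `g`, `d` and `E` lie in one proper subgroup. -/
theorem Conn.slot {x g d : G} (hx : x ∈ E) (hd : d ∈ theta p x)
    (hdE : cj d E ≤ closure ({x, g * x * g⁻¹} : Set G)) :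
    ∃ L : Subgroup G, L ≠ ⊤ ∧ E ≤ L ∧ g ∈ L ∧ d ∈ L := by
  set L := closure ({x * d, g} : Set G)
  have hxd : x * d ∈ L := subset_closure (Set.mem_insert _ _)
  have hg : g ∈ L := subset_closure (Set.mem_insert_of_mem _ rfl)
  have hcop := coprime_orders (hC.toBase.pow_eq hx) (not_dvd_orderOf_of_mem (not_dvd_card_T p _) hd)
  have hxL := left_mem_of_mul_mem (theta_commute hd).symm hcop hxd
  have hdL := right_mem_of_mul_mem (theta_commute hd).symm hcop hxd
  have hD : closure ({x, g * x * g⁻¹} : Set G) ≤ L := by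
    rw [closure_le]
    rintro _ (rfl | rfl)
    · exact hxL
    · exact mul_mem (mul_mem hg hxL) (inv_mem hg)
  refine ⟨L, hC.gen _ _, ?_, hg, hdL⟩
  have h := cj_le_of_mem (inv_mem hdL) (hdE.trans hD)
  rwa [cj_cj, inv_mul_cancel, cj_one] at h

theorem Conn.act_slot {x g d : G} (hx : x ∈ E) (hx1 : x ≠ 1) (hd : d ∈ theta p x)
    (hdE : cj d E ≤ closure ({x, g * x * g⁻¹} : Set G)) :
    hC.act (d⁻¹ * g * d) = hC.act g := by
  obtain ⟨L, hL, hEL, hg, hdL⟩ := hC.slot hcard hx hd hdE
  rw [hC.act_mul hL hEL (mul_mem (inv_mem hdL) hg) hdL, hC.act_mul hL hEL (inv_mem hdL) hg,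
    hC.act_inv hL hEL hdL, hC.act_theta hx hx1 hd, inv_one, one_mul, mul_one]

/-- Such a `d` exists when the line of `x` moves. -/
theorem Conn.moving {x g : G} (hx : x ∈ E) (hx1 : x ≠ 1)
    (hmove : ((hC.act g ⟨x, hx⟩ : ↥E) : G) ∉ zpowers x) :
    ∃ d ∈ theta p x, cj d E ≤ closure ({x, g * x * g⁻¹} : Set G) := by
  have hB := hC.toBase
  have hxC := inC_of_mem hx hx1
  obtain ⟨s, hs, v, hvD, hvC, hxv, he⟩ := hB.pair hxC (hxC.conj g)
  set D := closure ({x, g * x * g⁻¹} : Set G) with hDdef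
  have hxD : x ∈ D := subset_closure (Set.mem_insert _ _)
  have hv : v ∉ zpowers x := by
    intro hv
    obtain ⟨L, hL, hEL, hgE⟩ := hC.conn g
    have hDL : D ≤ L := by
      rw [hDdef, closure_le]
      rintro _ (rfl | rfl)
      · exact hEL hx
      · exact hgE (mem_cj hx)
    have hsT : s ∈ T p L := hB.commutator_le hL ((T_le p D).trans hDL) (not_dvd_card_T p D)
      (zpowers_le.mpr (hEL hx)) (hB.inC_zpowers hxC)
      ((zpowers_le.mpr hxD).trans (le_normalizer_T p D)) hs
    obtain ⟨t, ht, n, hn, e⟩ := hB.exists_split hL hEL hgE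
    have hf : hC.act g = phi E n := hC.act_eq hL hEL ht hn e
    rw [hf, phi_apply hn] at hmove
    suffices key : n * x * n⁻¹ = v from hmove (by rw [key]; exact hv)
    refine hB.eq_of_conj_T hEL (mul_mem (inv_mem hsT) ht) ?_ (zpowers_le.mpr hx hv) ?_
    · exact (mem_normalizer_iff.mp hn x).mp hx
    · calc s⁻¹ * t * (n * x * n⁻¹) * (s⁻¹ * t)⁻¹ = s⁻¹ * (g * x * g⁻¹) * s := by rw [e]; group
        _ = v := by rw [he]; group
  obtain ⟨c, hc, hcv⟩ := hB.into_of_commute hx hx1 hvC hxv.symm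
  refine ⟨c⁻¹, inv_mem hc, ?_⟩
  have hcx : c * x * c⁻¹ = x := by rw [(theta_commute hc).eq, mul_inv_cancel_right]
  have hle : E ≤ cj c D := by
    refine hB.le_of_two hcard hx hx1 hcv (fun h => hv ?_) ?_ (mem_cj hvD)
    · obtain ⟨i, hi⟩ := mem_zpowers_iff.mp h
      refine mem_zpowers_iff.mpr ⟨i, ?_⟩
      have h1 : c⁻¹ * x ^ i * c = x ^ i := by
        rw [mul_assoc, ((theta_commute hc).zpow_right i).symm.eq, inv_mul_cancel_left]
      rw [← h1, hi]; group
    · have := mem_cj (g := c) hxD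
      rwa [hcx] at this
  have h := cj_le_cj (a := c⁻¹) hle
  rwa [cj_cj, inv_mul_cancel, cj_one] at h

/-- Conjugation by elements of `theta x` does not change the induced automorphism. -/
theorem Conn.act_conj_theta {x c : G} (hx : x ∈ E) (hx1 : x ≠ 1) (hc : c ∈ theta p x) (g : G) :
    hC.act (c * g * c⁻¹) = hC.act g := by
  have hB := hC.toBase
  have hcx : c * x * c⁻¹ = x := by rw [(theta_commute hc).eq, mul_inv_cancel_right]
  by_cases hmove : ((hC.act g ⟨x, hx⟩ : ↥E) : G) ∈ zpowers x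
  swap
  · obtain ⟨d, hd, hdE⟩ := hC.moving hcard hx hx1 hmove
    have h2 : cj (c * d) E ≤ closure ({x, c * g * c⁻¹ * x * (c * g * c⁻¹)⁻¹} : Set G) := by
      rw [← cj_cj]
      refine (cj_le_cj hdE).trans ?_
      rw [cj, MonoidHom.map_closure, closure_le]
      rintro _ ⟨w, (rfl | rfl), rfl⟩
      · refine subset_closure (Set.mem_insert_iff.mpr (Or.inl ?_))
        exact hcx
      · refine subset_closure (Set.mem_insert_of_mem _ ?_)
        show c * (g * x * g⁻¹) * c⁻¹ = c * g * c⁻¹ * x * (c * g * c⁻¹)⁻¹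
        have h' : c⁻¹ * x * c = x := by
          rw [mul_assoc, (theta_commute hc).symm.eq, inv_mul_cancel_left]
        calc c * (g * x * g⁻¹) * c⁻¹ = c * g * (c⁻¹ * x * c) * g⁻¹ * c⁻¹ := by rw [h']; group
          _ = _ := by group
    rw [← hC.act_slot hcard hx hx1 (mul_mem hc hd) h2, ← hC.act_slot hcard hx hx1 hd hdE]
    congr 1
    group
  -- the line of `x` is fixed
  obtain ⟨n, hn, L, hL, hEL, hgE, t, ht, e⟩ := hC.exists_n g
  have hf : hC.act g = phi E n := hC.act_eq hL hEL ht hn e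
  rw [hf, phi_apply hn] at hmove
  have hxC := inC_of_mem hx hx1
  obtain ⟨s, hs, v, -, hvC, hxv, he⟩ := hB.pair hxC (hxC.conj t)
  set D := closure ({x, t * x * t⁻¹} : Set G) with hDdef
  have hxD : x ∈ D := subset_closure (Set.mem_insert _ _)
  have hxL : x ∈ L := hEL hx
  have hxN : zpowers x ≤ normalizer (T p D : Set G) :=
    (zpowers_le.mpr hxD).trans (le_normalizer_T p D)
  have hDL : D ≤ L := by
    rw [hDdef, closure_le]
    rintro _ (rfl | rfl)
    · exact hxL
    · exact mul_mem (mul_mem (T_le p L ht) hxL) (inv_mem (T_le p L ht))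
  have hsT : s ∈ T p L := hB.commutator_le hL ((T_le p D).trans hDL) (not_dvd_card_T p D)
    (zpowers_le.mpr hxL) (hB.inC_zpowers hxC) hxN hs
  set c5 := s⁻¹ * t with hc5
  have hc5T : c5 ∈ T p L := mul_mem (inv_mem hsT) ht
  have hv : v = c5 * x * c5⁻¹ := by
    calc v = s⁻¹ * (t * x * t⁻¹) * s := by rw [he]; group
      _ = _ := by rw [hc5]; group
  have hvx : v = x := by
    refine mul_inv_eq_one.mp (eq_one_of_pow_of_mem_T (p := p) (L := L) ?_ ?_)
    · rw [hxv.symm.inv_right.mul_pow, hvC.pow_eq hB, inv_pow, hB.pow_eq hx, inv_one, one_mul]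
    · rw [hv, show c5 * x * c5⁻¹ * x⁻¹ = c5 * (x * c5⁻¹ * x⁻¹) by group]
      exact mul_mem hc5T (T_conj_mem hxL (inv_mem hc5T))
  have hc5x : Commute c5 x := mul_inv_eq_iff_eq_mul.mp (hv.symm.trans hvx)
  rw [hvx] at he
  -- the middle factor
  have hni : n * x * n⁻¹ ≠ 1 := fun h => hx1 (conj_eq_one_iff.mp h)
  have hncn : n * c⁻¹ * n⁻¹ ∈ theta p x := by
    have h := theta_conj_mem (n := n) (inv_mem hc)
    rwa [theta, centralizer_eq_of_mem_zpowers (hB.pow_eq hx) hmove hni] at h
  have hc5C : c5 ∈ centralizer ({x} : Set G) := mem_centralizer_singleton_iff.mpr hc5x.eq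
  set d := c * c5 * (n * c⁻¹ * n⁻¹) with hd
  have hd1 : hC.act d = 1 := by
    have hCx := hC.toSetup.centralizer_ne_top hx1
    have hEx := hB.le_centralizer hx
    rw [hd, hC.act_mul hCx hEx (mul_mem (T_le p _ hc) hc5C) (T_le p _ hncn),
      hC.act_mul hCx hEx (T_le p _ hc) hc5C, hC.act_theta hx hx1 hc, hC.act_theta hx hx1 hncn,
      hC.act_T hL hEL hc5T, one_mul, one_mul]
  have hdx : Commute x d :=
    (((theta_commute hc).mul_left hc5x).mul_left (theta_commute hncn)).symm
  have hdp : ¬ p ∣ orderOf d := by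
    refine not_dvd_orderOf_of_mem (K := theta p x ⊔ zpowers c5) (fun hd' => ?_)
      (mul_mem (mul_mem (mem_sup_left hc) (mem_sup_right (mem_zpowers c5))) (mem_sup_left hncn))
    have h1 := hd'.trans (H68.EC.card_sup_dvd (A := zpowers c5) (B := theta p x)
      (zpowers_le.mpr (le_normalizer_T p _ hc5C)))
    rcases (Fact.out : p.Prime).dvd_mul.mp h1 with h | h
    · exact not_dvd_card_T p _ h
    · rw [Nat.card_zpowers] at h
      exact not_dvd_orderOf_of_mem (not_dvd_card_T p L) hc5T h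
  obtain ⟨z, hz, hzx⟩ := hB.exists_not_mem_zpowers hcard hx hx1
  set s' := c * s * c⁻¹ with hs'
  set L6 := closure ({x * d, s' * z} : Set G)
  have hL6 : L6 ≠ ⊤ := hC.gen _ _
  have hxd : x * d ∈ L6 := subset_closure (Set.mem_insert _ _)
  have hsz : s' * z ∈ L6 := subset_closure (Set.mem_insert_of_mem _ rfl)
  have hx6 := left_mem_of_mul_mem hdx (coprime_orders (hB.pow_eq hx) hdp) hxd
  have hd6 := right_mem_of_mul_mem hdx (coprime_orders (hB.pow_eq hx) hdp) hxd
  have hsx6 : s' * x * s'⁻¹ ∈ L6 := by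
    have e1 : s' * z * x * (s' * z)⁻¹ = s' * (z * x * z⁻¹) * s'⁻¹ := by group
    rw [show z * x * z⁻¹ = x by rw [(hB.comm hz hx).eq, mul_inv_cancel_right]] at e1
    exact e1 ▸ mul_mem (mul_mem hsz hx6) (inv_mem hsz)
  have hD6 : cj c D ≤ L6 := by
    rw [cj, hDdef, MonoidHom.map_closure, closure_le]
    rintro _ ⟨w, (hw | hw), rfl⟩ <;> rw [hw]
    · show c * x * c⁻¹ ∈ L6
      rwa [hcx]
    · show c * (t * x * t⁻¹) * c⁻¹ ∈ L6
      have h' : c⁻¹ * x * c = x := by
        rw [mul_assoc, (theta_commute hc).symm.eq, inv_mul_cancel_left]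
      rw [he, show c * (s * x * s⁻¹) * c⁻¹ = c * s * (c⁻¹ * x * c) * s⁻¹ * c⁻¹ by rw [h']; group]
      convert hsx6 using 1
      rw [hs']
      group
  have hsD : s ∈ D := T_le p D (H1.commutator_le_left_of_le_normalizer hxN hs)
  have hs6 : s' ∈ L6 := hD6 (mem_cj hsD)
  have hz6 : z ∈ L6 := by
    have := mul_mem (inv_mem hs6) hsz
    rwa [inv_mul_cancel_left] at this
  have hE6 : E ≤ L6 := hB.le_of_two hcard hx hx1 hz hzx hx6 hz6
  have hs'T : s' ∈ T p L6 := by
    refine hB.commutator_le hL6 ((cj_le_cj (T_le p D)).trans hD6) ?_ (zpowers_le.mpr hx6)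
      (hB.inC_zpowers hxC) ?_ ?_
    · rw [card_cj]; exact not_dvd_card_T p D
    · refine zpowers_le.mpr (mem_normalizer_iff_map_conj_eq.mpr ?_)
      show cj x (cj c (T p D)) = cj c (T p D)
      rw [cj_cj, (theta_commute hc).symm.eq, ← cj_cj,
        show cj x (T p D) = T p D from
          mem_normalizer_iff_map_conj_eq.mp (hxN (mem_zpowers x))]
    · have h := mem_map_of_mem (MulAut.conj c).toMonoidHom hs
      rw [map_commutator, MonoidHom.map_zpowers,
        show (MulAut.conj c).toMonoidHom x = x from hcx] at h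
      exact h
  calc hC.act (c * g * c⁻¹) = hC.act (s' * d * n) := by
        congr 1
        rw [e, hs', hd, hc5]; group
    _ = hC.act g := by
        rw [hC.act_mul_normalizer _ hn, hC.act_mul hL6 hE6 hs6 hd6, hC.act_T hL6 hE6 hs'T, hd1,
          one_mul, one_mul, hf]

/-- The subgroup of elements whose conjugation does not change `act` contains every `T L`. -/
theorem Conn.act_conj_T {L : Subgroup G} (hEL : E ≤ L) {t : G} (ht : t ∈ T p L)
    (g : G) : hC.act (t * g * t⁻¹) = hC.act g := by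
  have hB := hC.toBase
  let W : Subgroup G :=
    { carrier := {h | ∀ g, hC.act (h * g * h⁻¹) = hC.act g}
      one_mem' := fun g => by rw [one_mul, inv_one, mul_one]
      mul_mem' := fun {a b} ha hb g => by
        rw [show a * b * g * (a * b)⁻¹ = a * (b * g * b⁻¹) * a⁻¹ by group, ha, hb]
      inv_mem' := fun {a} ha g => by
        rw [← ha (a⁻¹ * g * a⁻¹⁻¹)]
        congr 1
        group }
  suffices h : T p L ≤ W from h ht g
  refine H8.generation_elements (A := E) hB.elem hcard.ge (hEL.trans (le_normalizer_T p L))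
    (not_dvd_card_T p L) fun a ha ha1 k hk => ?_
  set K1 := T p L ⊓ centralizer ({a} : Set G)
  have hK1 : ¬ p ∣ Nat.card K1 := H8.not_dvd_card_of_le inf_le_left (not_dvd_card_T p L)
  have hEK : E ≤ normalizer (K1 : Set G) :=
    H8.le_normalizer_inf (hEL.trans (le_normalizer_T p L))
      ((hB.le_centralizer ha).trans le_normalizer)
  obtain ⟨a', ha', c, -, hc, rfl⟩ := exists_decomp hB.isPGroup hEK hK1 hk
  refine mul_mem (fun g => ?_) (fun g => ?_)
  · exact hC.act_conj_theta hcard ha ha1 (hB.commutator_le (hB.toSetup.centralizer_ne_top ha1)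
      inf_le_right hK1 (hB.le_centralizer ha) hB.inC_self hEK ha') g
  · rw [hC.act_conj_normalizer g (centralizer_le_normalizer _ hc),
      (phi_eq_one_iff (centralizer_le_normalizer _ hc)).mpr hc, inv_one, one_mul, mul_one]

/-- `act` commutes with conjugation. -/
theorem Conn.act_conj_all (h g : G) :
    hC.act (h * g * h⁻¹) = hC.act h * hC.act g * (hC.act h)⁻¹ := by
  obtain ⟨n, hn, L, hL, hEL, -, t, ht, rfl⟩ := hC.exists_n h
  rw [hC.act_eq hL hEL ht hn rfl, show t * n * g * (t * n)⁻¹ = t * (n * g * n⁻¹) * t⁻¹ by group,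
    hC.act_conj_T hcard hEL ht, hC.act_conj_normalizer g hn]

end H83.TwoGen
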