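import Cfsg.Agent.H83.TwoGenSol.PlanePrime

/-!
`E` of order `p ^ 2`: the normaliser of `E` has the largest `q`-part and an `E`-invariant
`q`-subgroup outside it exists.
-/

set_option autoImplicit false
set_option linter.style.haveILetI false
set_option linter.unusedSectionVars false

namespace H83.TwoGen

open Subgroup H82
open scoped commutatorElement

universe u

variable {G : Type u} [Group G] [Finite G] {p : ℕ} [Fact p.Prime] {E : Subgroup G}

theorem coprime_card_of_pow {q : ℕ} [Fact q.Prime] {g : G} {j n : ℕ} (hg : g ^ q ^ j = 1)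
    (hn : ¬ q ∣ n) : n.Coprime (orderOf g) :=
  Nat.Coprime.coprime_dvd_right (orderOf_dvd_of_pow_eq_one hg)
    (Nat.Coprime.pow_right j (((Fact.out : q.Prime).coprime_iff_not_dvd).mpr hn).symm)

variable (hC : Conn G p E) (hcard : Nat.card E = p ^ 2)
  (hirr : ∀ x ∈ E, x ≠ 1 → ∃ n ∈ normalizer (E : Set G), n * x * n⁻¹ ∉ zpowers x)

include hC hcard hirr

theorem Conn.exists_inv_qgroup :
    ∃ q, q.Prime ∧ q ≠ p ∧ ¬ q ∣ Nat.card (centralizer (E : Set G)) ∧
      (∀ L : Subgroup G, L ≠ ⊤ → E ≤ L → ∀ Q : Subgroup G, IsPGroup q Q → Q ≤ L →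
        Nat.card Q ∣ Nat.card (autos E)) ∧
      ∃ R : Subgroup G, R ≠ ⊥ ∧ IsPGroup q R ∧ E ≤ normalizer (R : Set G) := by
  classical
  obtain ⟨q, hq, hqp, hindex, w0, hw0N, ⟨j0, hj0⟩, hw0⟩ := hC.exists_prime_index hcard hirr
  haveI : Fact q.Prime := ⟨hq⟩
  have hB := hC.toBase
  have hN := hB.normalizer_ne_top
  set f := fun L : Subgroup G => (Nat.card L).factorization q
  -- the largest `q`-part
  obtain ⟨M, ⟨hM, hEM⟩, hmax⟩ := Set.Finite.exists_maximalFor f
    {L : Subgroup G | L ≠ ⊤ ∧ E ≤ L} (Set.toFinite _) ⟨E, hB.ne_top_self, le_rfl⟩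
  have hmax' : ∀ L : Subgroup G, L ≠ ⊤ → E ≤ L → f L ≤ f M := fun L hL hEL => by
    by_contra h
    have := hmax (j := L) ⟨hL, hEL⟩ (not_le.mp h).le
    omega
  have hbig : ∀ (L : Subgroup G), L ≠ ⊤ → E ≤ L → ∀ (K1 : Subgroup G), SylowIn q K1 L → ∀ K0 Q :
      Subgroup G, SylowIn q K0 M → IsPGroup q Q → Q ≤ L → Nat.card Q ≤ Nat.card K0 := by
    intro L hL hEL K1 hK1 K0 Q hK0 hQ hQL
    refine (card_le_of_sylowIn hK1 hQ hQL).trans ?_
    rw [hK1.card_eq, hK0.card_eq]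
    exact Nat.pow_le_pow_right hq.pos (hmax' L hL hEL)
  obtain ⟨U, hU, hEU⟩ := hC.exists_inv_sylow_ker hqp hM hEM
  have hUM : U ≤ M := hU.le.trans (hC.ker_le hM hEM)
  obtain ⟨K0, hK0, hUK0⟩ := exists_sylowIn_ge hU.isPGroup hUM
  have hker : ∀ k ∈ K0, hC.act k = 1 → k ∈ U := fun k hk h1 => by
    have e : K0 ⊓ hC.ker hM hEM = U :=
      hU.eq_of_le (hK0.isPGroup.to_le inf_le_left) inf_le_right (le_inf hUK0 hU.le)
    exact e ▸ ⟨hk, (hC.mem_ker hM hEM).mpr ⟨hK0.le hk, h1⟩⟩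
  have hU1 : U = ⊥ := by
    by_contra hne
    obtain ⟨g, hgN, hgK, j, hj⟩ := exists_normalizer_elt hK0 (hindex M hM hEM)
    have hnorm : ∀ a : G, a ∈ normalizer (K0 : Set G) → a ∈ normalizer (U : Set G) := by
      intro a ha
      refine H82.mem_normalizer_of_map_le ?_
      rintro _ ⟨u, hu, rfl⟩
      refine hker _ ((mem_normalizer_iff.mp ha u).mp (hUK0 hu)) ?_
      show hC.act (a * u * a⁻¹) = 1
      rw [hC.act_conj_all hcard, ((hC.mem_ker hM hEM).mp (hU.le hu)).2, mul_one, mul_inv_cancel]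
    set L := normalizer (U : Set G)
    have hL : L ≠ ⊤ := hC.toSetup.normalizer_ne_top hne fun h => hM (top_le_iff.mp (h ▸ hUM))
    have hle : K0 ⊔ zpowers g ≤ L :=
      sup_le (fun k hk => hnorm k (le_normalizer hk)) (zpowers_le.mpr (hnorm g hgN))
    obtain ⟨K1, hK1⟩ := H82.exists_sylowIn q L
    have e : K0 = K0 ⊔ zpowers g := eq_of_le_of_card_ge le_sup_left
      (hbig L hL hEU K1 hK1 K0 _ hK0 (isPGroup_sup_zpowers hK0.isPGroup hj hgN) hle)
    exact hgK (e ▸ mem_sup_right (mem_zpowers g))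
  -- compare with `N(E)`
  obtain ⟨K, hK⟩ := H82.exists_sylowIn q (normalizer (E : Set G))
  have hcardN : Nat.card (centralizer (E : Set G)) * Nat.card (autos E) =
      Nat.card (normalizer (E : Set G)) := by
    rw [← card_mul_index (E.normalizerMonoidHom.ker), Subgroup.index_ker,
      Subgroup.normalizerMonoidHom_ker,
      Nat.card_congr (subgroupOfEquivOfLe (centralizer_le_normalizer (E : Set G))).toEquiv]
  have hK0dvd : Nat.card K0 ∣ Nat.card (autos E) := by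
    let f0 : ↥K0 →* ↥(autos E) :=
      ((hC.actHom hM hEM).comp (Subgroup.inclusion hK0.le)).codRestrict _ fun b => hC.act_mem_autos _
    refine Subgroup.card_dvd_of_injective f0 ((injective_iff_map_eq_one f0).mpr fun k hk => ?_)
    have h : hC.act (k : G) = 1 := congrArg Subtype.val hk
    have h' := hker k k.2 h
    rw [hU1, mem_bot] at h'
    exact Subtype.ext h'
  have hcard0 : Nat.card K = Nat.card K0 := by
    refine le_antisymm (hbig _ hN le_normalizer K hK K0 K hK0 hK.isPGroup hK.le) ?_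
    have h := hK0dvd.trans (Dvd.intro_left _ hcardN)
    rw [hK0.card_eq] at h
    rw [hK.card_eq, hK0.card_eq]
    exact Nat.pow_le_pow_right hq.pos
      ((hq.pow_dvd_iff_le_factorization Nat.card_pos.ne').mp h)
  have hCq : ¬ q ∣ Nat.card (centralizer (E : Set G)) := by
    intro hd
    have h1 : q * Nat.card K ∣ Nat.card (normalizer (E : Set G)) := by
      rw [← hcardN, hcard0]
      exact mul_dvd_mul hd hK0dvd
    rw [hK.card_eq, ← pow_succ', hq.pow_dvd_iff_le_factorization Nat.card_pos.ne'] at h1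
    omega
  have hdvd : ∀ L : Subgroup G, L ≠ ⊤ → E ≤ L → ∀ Q : Subgroup G, IsPGroup q Q → Q ≤ L →
      Nat.card Q ∣ Nat.card (autos E) := by
    intro L hL hEL Q hQ hQL
    obtain ⟨K1, hK1⟩ := H82.exists_sylowIn q L
    have hle := hbig L hL hEL K1 hK1 K0 Q hK0 hQ hQL
    refine dvd_trans ?_ hK0dvd
    obtain ⟨b, hb⟩ := hQ.exists_card_eq
    rw [hb, hK0.card_eq] at hle ⊢
    exact pow_dvd_pow q ((Nat.pow_le_pow_iff_right hq.one_lt).mp hle)
  have hmaxK : ∀ L : Subgroup G, L ≠ ⊤ → E ≤ L → ∀ Q : Subgroup G, IsPGroup q Q → Q ≤ L →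
      Nat.card Q ≤ Nat.card K := by
    intro L hL hEL Q hQ hQL
    obtain ⟨K1, hK1⟩ := H82.exists_sylowIn q L
    rw [hcard0]
    exact hbig L hL hEL K1 hK1 K0 Q hK0 hQ hQL
  refine ⟨q, hq, hqp, hCq, hdvd, ?_⟩
  -- `act` is injective on `K`
  have hKN : K ≤ normalizer (E : Set G) := hK.le
  have hCtriv : ∀ r : G, (∃ j, r ^ q ^ j = 1) → r ∈ centralizer (E : Set G) → r = 1 := by
    rintro r ⟨j, hj⟩ hr
    have h1 : orderOf r ∣ Nat.gcd (Nat.card (centralizer (E : Set G))) (orderOf r) :=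
      Nat.dvd_gcd (Subgroup.orderOf_dvd_natCard _ hr) dvd_rfl
    rw [(coprime_card_of_pow hj hCq).gcd_eq_one, Nat.dvd_one] at h1
    exact orderOf_eq_one_iff.mp h1
  have hinj : ∀ k ∈ K, phi E k = 1 → k = 1 := fun k hk h =>
    hCtriv k (exists_pow_eq_one_of_mem hK.isPGroup hk) ((phi_eq_one_iff (hKN hk)).mp h)
  set fK := E.normalizerMonoidHom.comp (Subgroup.inclusion hKN) with hfK
  have hfKval : ∀ k : ↥K, fK k = phi E k := fun k => (phi_eq_hom (hKN k.2)).symm
  have hfKinj : Function.Injective fK := (injective_iff_map_eq_one fK).mpr fun k hk =>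
    Subtype.ext (hinj k k.2 ((hfKval k).symm.trans hk))
  set S := fK.range with hSdef
  have hSA : S ≤ autos E := by
    rintro _ ⟨k, rfl⟩
    rw [hfKval]
    exact phi_mem_autos (hKN k.2)
  have hScard : Nat.card S = Nat.card K :=
    (Nat.card_congr (MonoidHom.ofInjective hfKinj).toEquiv).symm
  have hSq : IsPGroup q S := hK.isPGroup.of_surjective _ fK.rangeRestrict_surjective
  -- a `q`-element of `K` moving a line
  obtain ⟨b, hb, hbK⟩ := hK.exists_conj_le (isPGroup_zpowers_of_pow_pow hj0) (zpowers_le.mpr hw0N)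
  set w := b * w0 * b⁻¹ with hwdef
  have hwK : w ∈ K := hbK ⟨w0, mem_zpowers _, rfl⟩
  have hwl : phi E w ∉ lines E := by
    rw [hwdef, phi_mul (mul_mem hb hw0N) (inv_mem hb), phi_mul hb hw0N, phi_inv hb]
    intro h
    have h' := (lines_normal (E := E)).conj_mem _ h (phi E b)⁻¹
    rw [inv_inv] at h'
    refine hw0 ?_
    convert h' using 1
    group
  obtain ⟨g0, hg0N, hg0K, jg, hjg⟩ := exists_normalizer_elt hK (hindex _ hN le_normalizer)
  obtain ⟨g, hgN, hgK, ⟨j, hj⟩, hgl⟩ : ∃ g ∈ normalizer (K : Set G), g ∉ K ∧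
      (∃ j, g ^ q ^ j = 1) ∧ hC.act g ∉ lines E := by
    by_cases h : hC.act g0 ∈ lines E
    swap
    · exact ⟨g0, hg0N, hg0K, ⟨jg, hjg⟩, h⟩
    refine ⟨g0 * w, mul_mem hg0N (le_normalizer hwK), fun h' => hg0K ?_, ?_, fun h' => hwl ?_⟩
    · simpa using mul_mem h' (inv_mem hwK)
    · exact exists_pow_eq_one_of_mem (isPGroup_sup_zpowers hK.isPGroup hjg hg0N)
        (mul_mem (mem_sup_right (mem_zpowers g0)) (mem_sup_left hwK))
    · rw [hC.act_mul_normalizer g0 (hKN hwK)] at h'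
      simpa using mul_mem (inv_mem h) h'
  -- its automorphism lies in `S`
  obtain ⟨k, hkK, hkg⟩ : ∃ k ∈ K, phi E k = hC.act g := by
    obtain ⟨x, hx, hx1, hmove⟩ := hB.exists_moved hgl
    obtain ⟨d, hd, hdE⟩ := hC.moving hcard hx hx1 hmove
    obtain ⟨L, hL, hEL, hgL, -⟩ := hC.slot hcard hx hd hdE
    have hσq : hC.act g ^ q ^ j = 1 := by rw [← hC.act_pow hL hEL hgL, hj, hC.act_one]
    have hσN : hC.act g ∈ normalizer (S : Set (MulAut ↥E)) := by
      refine H82.mem_normalizer_of_map_le ?_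
      rintro _ ⟨-, ⟨c, rfl⟩, rfl⟩
      refine ⟨⟨g * c * g⁻¹, (mem_normalizer_iff.mp hgN c).mp c.2⟩, ?_⟩
      rw [hfKval]
      show phi E (g * c * g⁻¹) = hC.act g * fK c * (hC.act g)⁻¹
      have h1 : g * c * g⁻¹ ∈ K := (mem_normalizer_iff.mp hgN c).mp c.2
      rw [← hC.act_normalizer (hKN h1), hC.act_conj_all hcard, hC.act_normalizer (hKN c.2), hfKval]
    have hT : IsPGroup q ↥(S ⊔ zpowers (hC.act g)) :=
      hSq.to_sup_of_normal_left' (fun ⟨y, hy⟩ => by
        obtain ⟨i, rfl⟩ := mem_zpowers_iff.mp hy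
        refine ⟨j, Subtype.ext ?_⟩
        simp only [SubmonoidClass.mk_pow, OneMemClass.coe_one]
        rw [← zpow_natCast, ← zpow_mul, mul_comm, zpow_mul, zpow_natCast, hσq, one_zpow])
        (zpowers_le.mpr hσN)
    have hTA : S ⊔ zpowers (hC.act g) ≤ autos E := sup_le hSA (zpowers_le.mpr (hC.act_mem_autos g))
    have hSeq : S = S ⊔ zpowers (hC.act g) := by
      refine eq_of_le_of_card_ge le_sup_left ?_
      obtain ⟨i, hi⟩ := hT.exists_card_eq
      rw [hScard, hK.card_eq, hi]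
      refine Nat.pow_le_pow_right hq.pos ((hq.pow_dvd_iff_le_factorization Nat.card_pos.ne').mp ?_)
      exact (hi ▸ Subgroup.card_dvd_of_le hTA).trans (Dvd.intro_left _ hcardN)
    obtain ⟨c, hc⟩ : hC.act g ∈ S := hSeq ▸ mem_sup_right (mem_zpowers _)
    exact ⟨c, c.2, (hfKval c).symm.trans hc⟩
  set g' := g * k⁻¹ with hg'
  have hg'N : g' ∈ normalizer (K : Set G) := mul_mem hgN (le_normalizer (inv_mem hkK))
  have hg'K : g' ∉ K := fun h => hgK (by simpa [g'] using mul_mem h hkK)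
  obtain ⟨i, hi⟩ : ∃ i, g' ^ q ^ i = 1 :=
    exists_pow_eq_one_of_mem (isPGroup_sup_zpowers hK.isPGroup hj hgN)
      (mul_mem (mem_sup_right (mem_zpowers g)) (mem_sup_left (inv_mem hkK)))
  have hg'1 : hC.act g' = 1 := by
    rw [hg', hC.act_mul_normalizer g (inv_mem (hKN hkK)), phi_inv (hKN hkK), hkg, mul_inv_cancel]
  have hcomm : ∀ c ∈ K, Commute g' c := by
    intro c hc
    have h1 : g' * c * g'⁻¹ ∈ K := (mem_normalizer_iff.mp hg'N c).mp hc
    have h2 : phi E (g' * c * g'⁻¹) = phi E c := by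
      rw [← hC.act_normalizer (hKN h1), hC.act_conj_all hcard, hg'1, one_mul, inv_one, mul_one,
        hC.act_normalizer (hKN hc)]
    have h3 := hinj _ (mul_mem h1 (inv_mem hc)) (by
      rw [phi_mul (hKN h1) (inv_mem (hKN hc)), phi_inv (hKN hc), h2, mul_inv_cancel])
    exact mul_inv_eq_iff_eq_mul.mp (mul_inv_eq_one.mp h3)
  -- `g'` lies in some `T L`
  obtain ⟨x, hx, hx1, hmove⟩ : ∃ (x : G) (hx : x ∈ E), x ≠ 1 ∧
      ((hC.act (g' * w) ⟨x, hx⟩ : ↥E) : G) ∉ zpowers x := by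
    refine hB.exists_moved ?_
    rwa [hC.act_mul_normalizer g' (hKN hwK), hg'1, one_mul]
  obtain ⟨d, hd, hdE⟩ := hC.moving hcard hx hx1 hmove
  obtain ⟨L0, hL0, hEL0, hgwL, -⟩ := hC.slot hcard hx hd hdE
  set D := E ⊔ cj g' E with hDdef
  have hDL : D ≤ L0 := by
    refine sup_le hEL0 ?_
    have h := cj_le_of_mem hgwL hEL0
    rwa [← cj_cj, cj_eq_of_mem (hKN hwK)] at h
  have hD : D ≠ ⊤ := fun h => hL0 (top_le_iff.mp (h ▸ hDL))
  have hED : E ≤ D := le_sup_left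
  set T1 := T p D
  have hKD : ∀ c ∈ K, cj c D = D := fun c hc => by
    rw [hDdef, cj, Subgroup.map_sup]
    show cj c E ⊔ cj c (cj g' E) = _
    rw [cj_cj, ← (hcomm c hc).eq, ← cj_cj, cj_eq_of_mem (hKN hc)]
  have hKT : K ≤ normalizer (T1 : Set G) := by
    intro c hc
    refine H82.mem_normalizer_of_map_le ?_
    rintro _ ⟨y, hy, rfl⟩
    have h := T_mem_of_conj (p := p) c hy
    change c * y * c⁻¹ ∈ T p (cj c D) at h
    rw [hKD c hc] at h
    exact h
  have hT1q : ¬ q ∣ Nat.card T1 := by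
    intro hd'
    obtain ⟨Q, hQ⟩ := H82.exists_sylowIn q T1
    have hQ1 : Q ≠ ⊥ := fun h => by
      have h1 := hQ.card_eq
      rw [h, Subgroup.card_bot] at h1
      have h2 := hq.factorization_pos_of_dvd Nat.card_pos.ne' hd'
      exact absurd h1.symm (Nat.one_lt_pow h2.ne' hq.one_lt).ne'
    have hT1 : T1 ≠ ⊥ := fun h => hQ1 (le_bot_iff.mp (h ▸ hQ.le))
    set L := normalizer (T1 : Set G)
    have hL : L ≠ ⊤ := hC.toSetup.normalizer_ne_top hT1
      (hC.toSetup.ne_top_of_not_dvd (not_dvd_card_T p D))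
    have hEL : E ≤ L := hED.trans (le_normalizer_T p D)
    obtain ⟨K1, hK1, hKK1⟩ := exists_sylowIn_ge (M := L) hK.isPGroup hKT
    have e : K1 = K := (eq_of_le_of_card_ge hKK1 (hmaxK L hL hEL K1 hK1.isPGroup hK1.le)).symm
    obtain ⟨b', hb', hbQ⟩ := hK1.exists_conj_le hQ.isPGroup (hQ.le.trans le_normalizer)
    refine hQ1 ((Subgroup.eq_bot_iff_forall Q).mpr fun y hy => ?_)
    have hy1 : b' * y * b'⁻¹ ∈ K := e ▸ hbQ ⟨y, hy, rfl⟩
    have hy2 : b' * y * b'⁻¹ ∈ T1 := (mem_normalizer_iff.mp hb' y).mp (hQ.le hy)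
    exact conj_eq_one_iff.mp (hinj _ hy1 (by rw [← hC.act_normalizer (hKN hy1), hC.act_T hD hED hy2]))
  obtain ⟨t1, ht1, n1, hn1, hg'eq⟩ := hB.exists_split hD hED (g := g') le_sup_right
  set N0 := T1 ⊓ normalizer (E : Set G)
  have hWK : zpowers w ≤ K := zpowers_le.mpr hwK
  obtain ⟨c, hcW, hcN⟩ := H1.exists_fixed_mem_coset (A := zpowers w) (N := N0) (k := t1)
    (H8.le_normalizer_inf (hWK.trans hKT) ((hWK.trans hKN).trans le_normalizer))
    (by
      obtain ⟨i', hi'⟩ := (hK.isPGroup.to_le hWK).exists_card_eq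
      rw [hi']
      exact (Nat.Coprime.pow_left i' ((hq.coprime_iff_not_dvd).mpr
        (H8.not_dvd_card_of_le inf_le_left hT1q))).symm)
    (Or.inr (Group.isSolvable_of_comm fun a b => mul_comm' a b))
    (fun a ha => by
      refine Subgroup.mem_inf.mpr ⟨mul_mem (inv_mem ht1)
        ((mem_normalizer_iff.mp (hKT (hWK ha)) t1).mp ht1), ?_⟩
      have haN := hKN (hWK ha)
      have e : t1⁻¹ * (a * t1 * a⁻¹) = n1 * a * n1⁻¹ * a⁻¹ := by
        have h : a * g' * a⁻¹ = g' := by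
          rw [← (hcomm a (hWK ha)).eq, mul_inv_cancel_right]
        calc t1⁻¹ * (a * t1 * a⁻¹) = t1⁻¹ * (a * g' * a⁻¹) * (a * n1⁻¹ * a⁻¹) := by
              rw [hg'eq]; group
          _ = _ := by rw [h, hg'eq]; group
      rw [e]
      exact mul_mem (mul_mem (mul_mem hn1 haN) (inv_mem hn1)) (inv_mem haN))
  have hcT : c ∈ T1 := by
    have := mul_mem ht1 (Subgroup.mem_inf.mp hcN).1
    rwa [mul_inv_cancel_left] at this
  set d' := c⁻¹ * g' with hd'
  have hd'N : d' ∈ normalizer (E : Set G) := by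
    rw [hd', hg'eq, ← mul_assoc,
      show c⁻¹ * t1 = (t1⁻¹ * c)⁻¹ by group]
    exact mul_mem (inv_mem (Subgroup.mem_inf.mp hcN).2) hn1
  have hd'C : d' ∈ centralizer (E : Set G) := by
    refine (phi_eq_one_iff hd'N).mp ?_
    rw [← hg'1]
    exact (hC.act_eq hD hED hcT hd'N (mul_inv_cancel_left c g').symm).symm
  have hd'w : Commute d' w :=
    (show Commute c w from (mem_centralizer_iff.mp hcW w (mem_zpowers w)).symm).inv_left.mul_left
      (hcomm w hwK)
  obtain ⟨iw, hiw⟩ := exists_pow_eq_one_of_mem hK.isPGroup hwK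
  have hcop : (orderOf d').Coprime (orderOf w) :=
    (coprime_card_of_pow hiw hCq).coprime_dvd_left (Subgroup.orderOf_dvd_natCard _ hd'C)
  have hd'L : d' ∈ L0 := by
    refine left_mem_of_mul_mem hd'w hcop ?_
    rw [hd', mul_assoc]
    exact mul_mem (inv_mem (hDL (T_le p D hcT))) hgwL
  have hg'L : g' ∈ L0 := by
    have := mul_mem (hDL (T_le p D hcT)) hd'L
    rwa [hd', mul_inv_cancel_left] at this
  obtain ⟨t, ht, n, hnC, hnL, hg't⟩ := hC.split_of_act_eq_one hL0 hEL0 hg'L hg'1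
  set r := Nat.card (centralizer (E : Set G))
  have hgr : g' ^ r ∈ T p L0 := by
    have h := mul_pow_mem ht (le_normalizer_T p L0 hnL) r
    rwa [← hg't, orderOf_dvd_iff_pow_eq_one.mp (Subgroup.orderOf_dvd_natCard _ hnC), inv_one,
      mul_one] at h
  obtain ⟨l, hl⟩ := exists_pow_eq_self_of_coprime (coprime_card_of_pow hi hCq : r.Coprime (orderOf g'))
  have hg'T : g' ∈ T p L0 := hl ▸ pow_mem hgr l
  obtain ⟨R, hR, hER⟩ := H8.exists_inv_sylowIn (q := q) hB.isPGroup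
    (hEL0.trans (le_normalizer_T p L0)) (not_dvd_card_T p L0)
  refine ⟨R, fun h => ?_, hR.isPGroup, hER⟩
  obtain ⟨m, -, hmR⟩ := hR.exists_conj_le (isPGroup_zpowers_of_pow_pow hi) (zpowers_le.mpr hg'T)
  have h1 : m * g' * m⁻¹ ∈ R := hmR ⟨g', mem_zpowers _, rfl⟩
  rw [h, mem_bot] at h1
  exact hg'K (conj_eq_one_iff.mp h1 ▸ one_mem K)

end H83.TwoGen
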