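import Cfsg.Agent.H83.TwoGenSol.PlaneBase
import Cfsg.Agent.H83.TwoGenSol.QTools
import Cfsg.Agent.H83.TwoGenSol.Transfer

/-!
`E` of order `p ^ 2` without an invariant line: a prime `q` dividing every index.
-/

set_option autoImplicit false
set_option linter.style.haveILetI false
set_option linter.unusedSectionVars false

namespace H83.TwoGen

open Subgroup
open scoped commutatorElement

universe u

variable {G : Type u} [Group G] [Finite G] {p : ℕ} [Fact p.Prime] {E : Subgroup G}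

/-- The automizer of `E`. -/
abbrev autos (E : Subgroup G) : Subgroup (MulAut ↥E) := E.normalizerMonoidHom.range

theorem phi_eq_hom {n : G} (hn : n ∈ normalizer (E : Set G)) :
    phi E n = E.normalizerMonoidHom ⟨n, hn⟩ := dif_pos hn

theorem phi_mem_autos {n : G} (hn : n ∈ normalizer (E : Set G)) : phi E n ∈ autos E :=
  ⟨⟨n, hn⟩, (phi_eq_hom hn).symm⟩

theorem exists_of_mem_autos {σ : MulAut ↥E} (h : σ ∈ autos E) :
    ∃ n ∈ normalizer (E : Set G), phi E n = σ := by
  obtain ⟨n, rfl⟩ := h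
  exact ⟨n, n.2, phi_eq_hom n.2⟩

theorem Conn.act_mem_autos (hC : Conn G p E) (g : G) : hC.act g ∈ autos E := by
  obtain ⟨n, hn, h, -⟩ := hC.act_mem_range g
  exact h ▸ phi_mem_autos hn

variable (hC : Conn G p E) (hcard : Nat.card E = p ^ 2)
  (hirr : ∀ x ∈ E, x ≠ 1 → ∃ n ∈ normalizer (E : Set G), n * x * n⁻¹ ∉ zpowers x)

include hC hcard hirr

/-- The automizer has order prime to `p`. -/
theorem Conn.not_dvd_autos : ¬ p ∣ Nat.card (autos E) := by
  intro hd
  have hB := hC.toBase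
  obtain ⟨σ, hσ⟩ := exists_prime_orderOf_dvd_card' (G := autos E) p hd
  have hσp : (σ : MulAut ↥E) ^ p = 1 := by
    have h := pow_orderOf_eq_one σ
    rw [hσ] at h
    simpa using congrArg Subtype.val h
  have hσ1 : (σ : MulAut ↥E) ≠ 1 := fun h => by
    rw [← Subgroup.orderOf_coe, h, orderOf_one] at hσ
    exact (Fact.out : p.Prime).ne_one hσ.symm
  obtain ⟨n, hn, hnσ⟩ := exists_of_mem_autos σ.2
  have hN := hB.normalizer_ne_top
  obtain ⟨a, j, hj, ha⟩ := exists_q_part_pow (q := p) n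
  set z := n ^ a with hzdef
  have hz : z ∈ normalizer (E : Set G) := pow_mem hn a
  have hzσ : phi E z = σ := by
    rw [← hC.act_normalizer hz, hzdef, hC.act_pow hN le_normalizer hn, hC.act_normalizer hn, hnσ]
    refine ha _ 1 ?_ (by rw [pow_one]; exact hσp)
    rw [← hnσ, ← hC.act_normalizer hn, ← hC.act_pow hN le_normalizer hn, pow_orderOf_eq_one,
      hC.act_one]
  -- `z` acts quadratically on `E`
  set Z := zpowers z
  have hZp : IsPGroup p Z := isPGroup_zpowers_of_pow_pow hj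
  have hZN : Z ≤ normalizer (E : Set G) := zpowers_le.mpr hz
  have h1 : ⁅E, Z⁆ < E := H1.commutator_lt_of_isPGroup hZp hB.isPGroup hZN hB.ne
  have h2 : ⁅⁅E, Z⁆, Z⁆ = ⊥ := by
    rcases eq_or_ne ⁅E, Z⁆ ⊥ with h | h
    · rw [h, commutator_bot_left]
    have h3 : ⁅⁅E, Z⁆, Z⁆ < ⁅E, Z⁆ :=
      H1.commutator_lt_of_isPGroup hZp (hB.isPGroup.to_le h1.le) H1.right_le_normalizer_commutator h
    by_contra hne
    obtain ⟨k1, hk1⟩ := (hB.isPGroup.to_le (h3.le.trans h1.le)).exists_card_eq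
    obtain ⟨k2, hk2⟩ := (hB.isPGroup.to_le h1.le).exists_card_eq
    have hlt : ∀ {A B : Subgroup G}, A < B → Nat.card A < Nat.card B := fun hAB =>
      lt_of_le_of_ne (Subgroup.card_le_of_le hAB.le) fun e =>
        hAB.ne (eq_of_le_of_card_ge hAB.le e.ge)
    have l1 := hlt h1
    have l2 := hlt h3
    rw [hk2, hcard] at l1
    rw [hk1, hk2] at l2
    have e2 := (Nat.pow_lt_pow_iff_right (Fact.out : p.Prime).one_lt).mp l1
    have e1 := (Nat.pow_lt_pow_iff_right (Fact.out : p.Prime).one_lt).mp l2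
    exact hne (Subgroup.card_eq_one.mp (by rw [hk1, show k1 = 0 by omega, pow_zero]))
  -- `p`-stability
  set X := normalizer (E : Set G)
  haveI := hB.sol X hN
  set V := E.subgroupOf X
  haveI hVn : V.Normal := (normal_subgroupOf_iff_le_normalizer le_normalizer).mpr le_rfl
  have hV : IsPGroup p V := hB.isPGroup.comap_subtype
  have hq : ⁅⁅V, zpowers (⟨z, hz⟩ : ↥X)⁆, zpowers (⟨z, hz⟩ : ↥X)⁆ = ⊥ := by
    apply map_injective X.subtype_injective
    rw [map_commutator, map_commutator, MonoidHom.map_zpowers, map_subgroupOf_eq_of_le le_normalizer,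
      Subgroup.map_bot]
    exact h2
  have hmem := isPStableOn_solvable hB.five V hV ⟨z, hz⟩ hq
  set C := centralizer (V : Set ↥X)
  haveI := H1.pCore_normal' p (↥X ⧸ C)
  set D := (Cfsg.pCore p (↥X ⧸ C)).comap (QuotientGroup.mk' C)
  haveI hDn : D.Normal := Subgroup.Normal.comap inferInstance _
  have hzD : (⟨z, hz⟩ : ↥X) ∈ D := hmem
  set P := D.map E.normalizerMonoidHom
  have hPp : IsPGroup p P := by
    rintro ⟨-, d, hd, rfl⟩
    obtain ⟨k, hk⟩ := H1.isPGroup_pCore p (↥X ⧸ C) ⟨_, hd⟩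
    refine ⟨k, Subtype.ext ?_⟩
    have hk' : d ^ p ^ k ∈ C := by
      have h := congrArg Subtype.val hk
      simp only [SubmonoidClass.coe_pow, OneMemClass.coe_one, ← map_pow] at h
      exact (QuotientGroup.eq_one_iff _).mp h
    rw [SubmonoidClass.coe_pow, OneMemClass.coe_one, ← map_pow]
    have hc : ((d ^ p ^ k : ↥X) : G) ∈ centralizer (E : Set G) :=
      mem_centralizer_iff.mpr fun e he => congrArg Subtype.val
        (mem_centralizer_iff.mp hk' ⟨e, le_normalizer he⟩ he)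
    rw [← phi_eq_hom]
    exact (phi_eq_one_iff (d ^ p ^ k : ↥X).2).mpr hc
  obtain ⟨e0, he0, hfix⟩ := H8.exists_fixed_mem (G := MulAut ↥E)
    (MulAction.toPermHom (MulAut ↥E) ↥E) hPp ({1}ᶜ : Set ↥E)
    (fun σ _ e he h => he (by
      rw [Set.mem_singleton_iff] at h ⊢
      exact σ.injective (h.trans (map_one σ).symm)))
    (by
      rw [Nat.card_coe_set_eq, Set.ncard_compl, Set.ncard_singleton, hcard]
      intro hd'
      have hp := (Fact.out : p.Prime)
      have h3 : p ∣ p ^ 2 := dvd_pow_self p two_ne_zero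
      have h4 := Nat.dvd_sub h3 hd'
      rw [Nat.sub_sub_self (Nat.one_le_pow _ _ hp.pos)] at h4
      exact hp.not_dvd_one h4)
  have he01 : (e0 : G) ≠ 1 := fun h => he0 (Subtype.ext h)
  have hfixG : ∀ d ∈ D, (d : G) * e0 * (d : G)⁻¹ = e0 := fun d hd => by
    have h : E.normalizerMonoidHom d e0 = e0 := hfix _ ⟨d, hd, rfl⟩
    rw [← phi_eq_hom d.2] at h
    have h5 := congrArg Subtype.val h
    rwa [phi_apply d.2] at h5
  -- the fixed line is invariant
  obtain ⟨m, hm, hmove⟩ := hirr e0 e0.2 he01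
  set f := m * (e0 : G) * m⁻¹ with hf
  have hfE : f ∈ E := (mem_normalizer_iff.mp hm e0).mp e0.2
  have hzf : z * f * z⁻¹ = f := by
    have hd' := hfixG _ (hDn.conj_mem _ hzD (⟨m, hm⟩⁻¹ : ↥X))
    simp only [Subgroup.coe_mul, InvMemClass.coe_inv, inv_inv] at hd'
    calc z * f * z⁻¹ = m * (m⁻¹ * z * m * e0 * (m⁻¹ * z * m)⁻¹) * m⁻¹ := by rw [hf]; group
      _ = f := by rw [hd', hf]
  have hle : E ≤ centralizer ({z} : Set G) :=
    hB.le_of_two hcard e0.2 he01 hfE hmove
      (mem_centralizer_singleton_iff.mpr (mul_inv_eq_iff_eq_mul.mp (hfixG _ hzD)).symm)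
      (mem_centralizer_singleton_iff.mpr (mul_inv_eq_iff_eq_mul.mp hzf).symm)
  refine hσ1 (hzσ ▸ (phi_eq_one_iff hz).mpr (mem_centralizer_iff.mpr fun e he => ?_))
  exact mem_centralizer_singleton_iff.mp (hle he)

/-- A prime dividing all indices, with a `q`-element moving a line. -/
theorem Conn.exists_prime_index :
    ∃ q, q.Prime ∧ q ≠ p ∧ (∀ M : Subgroup G, M ≠ ⊤ → E ≤ M → q ∣ M.index) ∧
      ∃ w ∈ normalizer (E : Set G), (∃ j, w ^ q ^ j = 1) ∧ phi E w ∉ lines E := by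
  classical
  have hB := hC.toBase
  have hN := hB.normalizer_ne_top
  obtain ⟨x, hx, hx1⟩ : ∃ x ∈ E, x ≠ 1 := E.bot_or_exists_ne_one.resolve_left hB.ne
  obtain ⟨n0, hn0, hmove⟩ := hirr x hx hx1
  haveI := lines_normal (E := E)
  set N := (lines E).subgroupOf (autos E)
  haveI : N.Normal := Subgroup.Normal.subgroupOf (lines_normal (E := E)) _
  haveI := hB.sol _ hN
  haveI : Group.IsSolvable ↥(autos E) :=
    Group.isSolvable_of_surjective E.normalizerMonoidHom.rangeRestrict_surjective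
  haveI : Group.IsSolvable (↥(autos E) ⧸ N) := inferInstance
  haveI : Nontrivial (↥(autos E) ⧸ N) := by
    refine ⟨⟨(⟨phi E n0, phi_mem_autos hn0⟩ : ↥(autos E)), 1, fun h => hmove ?_⟩⟩
    have h1 : phi E n0 ∈ lines E :=
      (QuotientGroup.eq_one_iff (⟨phi E n0, phi_mem_autos hn0⟩ : ↥(autos E))).mp h
    have h2 : ((phi E n0 ⟨x, hx⟩ : ↥E) : G) ∈ zpowers x := by
      have h3 : phi E n0 ⟨x, hx⟩ ∈ zpowers (⟨x, hx⟩ : ↥E) := by rw [← h1]; exact mem_zpowers _
      obtain ⟨i, hi⟩ := mem_zpowers_iff.mp h3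
      exact mem_zpowers_iff.mpr ⟨i, by rw [← hi, coe_zpow]⟩
    rwa [phi_apply hn0] at h2
  set A := Abelianization (↥(autos E) ⧸ N)
  haveI : Finite A := Finite.of_surjective _ QuotientGroup.mk_surjective
  set χ : ↥(autos E) →* A := Abelianization.of.comp (QuotientGroup.mk' N)
  have hχs : Function.Surjective χ :=
    QuotientGroup.mk_surjective.comp (QuotientGroup.mk'_surjective N)
  have hA : Nat.card A ≠ 1 := by
    intro h
    haveI : Subsingleton A := (Nat.card_eq_one_iff_unique.mp h).1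
    refine (Group.IsSolvable.commutator_lt_top_of_nontrivial (↥(autos E) ⧸ N)).ne ?_
    refine eq_top_iff.mpr fun y _ => ?_
    exact (QuotientGroup.eq_one_iff y).mp (Subsingleton.elim (Abelianization.of y) 1)
  obtain ⟨q, hq, hqd⟩ := Nat.exists_prime_and_dvd hA
  haveI : Fact q.Prime := ⟨hq⟩
  have hqp : q ≠ p := by
    rintro rfl
    exact hC.not_dvd_autos hcard hirr (hqd.trans (Subgroup.card_dvd_of_surjective χ hχs))
  obtain ⟨a, ha⟩ := exists_prime_orderOf_dvd_card' q hqd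
  have ha1 : a ≠ 1 := fun h => by
    rw [h, orderOf_one] at ha
    exact hq.ne_one ha.symm
  have haq : a ^ q ^ 1 = 1 := by rw [pow_one, ← ha, pow_orderOf_eq_one]
  obtain ⟨⟨σ, hσ⟩, hσa⟩ := hχs a
  obtain ⟨m, hm, rfl⟩ := exists_of_mem_autos hσ
  have hlam : ∀ (g : G) (h : G),
      χ ⟨hC.act (h * g * h⁻¹), hC.act_mem_autos _⟩ = χ ⟨hC.act g, hC.act_mem_autos g⟩ := by
    intro g h
    have e : (⟨hC.act (h * g * h⁻¹), hC.act_mem_autos _⟩ : ↥(autos E)) =
        ⟨hC.act h, hC.act_mem_autos h⟩ * ⟨hC.act g, hC.act_mem_autos g⟩ *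
          ⟨hC.act h, hC.act_mem_autos h⟩⁻¹ := Subtype.ext (hC.act_conj_all hcard h g)
    rw [e, map_mul, map_mul, map_inv, mul_right_comm, mul_inv_cancel, one_mul]
  have hpow : ∀ l : ℕ, χ ⟨hC.act (m ^ l), hC.act_mem_autos _⟩ = a ^ l := by
    intro l
    rw [← hσa, ← map_pow]
    congr 1
    apply Subtype.ext
    show hC.act (m ^ l) = phi E m ^ l
    rw [hC.act_pow hN le_normalizer hm, hC.act_normalizer hm]
  refine ⟨q, hq, hqp, fun M hM hEM => ?_, ?_⟩
  · refine hC.toSetup.dvd_index (q := q)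
      (χ.comp ((hC.actHom hM hEM).codRestrict (autos E) fun b => hC.act_mem_autos _)) m a ha1
      (k := 1) haq fun l w hw => ?_
    have h1 := hlam (m ^ l) w⁻¹
    rw [inv_inv, hpow l] at h1
    exact h1
  · obtain ⟨c, j, hj, hc⟩ := exists_q_part_pow (q := q) m
    have h1 : a ^ orderOf m = 1 := by
      rw [← hpow, pow_orderOf_eq_one]
      exact (congrArg χ (Subtype.ext hC.act_one)).trans (map_one χ)
    have h2 := hc a 1 h1 haq
    refine ⟨m ^ c, pow_mem hm c, ⟨j, hj⟩, fun h => ha1 ?_⟩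
    rw [← h2, ← hpow]
    show Abelianization.of (QuotientGroup.mk' N _) = 1
    rw [QuotientGroup.mk'_apply, (QuotientGroup.eq_one_iff _).mpr ?_, map_one]
    show hC.act (m ^ c) ∈ lines E
    rwa [hC.act_normalizer (pow_mem hm c)]

end H83.TwoGen
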