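import Cfsg.Agent.H83.TwoGenSol.Core

/-!
A finite group with all two-generated subgroups soluble is soluble, given the rank two analysis.
-/

set_option autoImplicit false
set_option linter.style.haveILetI false
set_option linter.unusedSectionVars false

namespace H83.TwoGen

open Subgroup

universe u

/-- The rank two case, as a hypothesis. -/
def PlaneCase : Prop :=
  ∀ (G : Type u) [Group G] [Finite G] (p : ℕ) [Fact p.Prime] (E : Subgroup G), Conn G p E →
    Nat.card E = p ^ 2 →
    (∀ x ∈ E, x ≠ 1 → ∃ n ∈ normalizer (E : Set G), n * x * n⁻¹ ∉ zpowers x) → False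

theorem solvable_of_twoGen_of_plane (hplane : PlaneCase.{u}) :
    ∀ (n : ℕ) (G : Type u) [Group G] [Finite G], Nat.card G ≤ n →
      (∀ a b : G, Group.IsSolvable (closure ({a, b} : Set G))) → Group.IsSolvable G := by
  intro n
  induction n with
  | zero => intro G _ _ hn; exact absurd (Nat.card_pos (α := G)) (by omega)
  | succ n ih =>
  intro G _ _ hn h
  by_contra hns
  have hsub : ∀ H : Subgroup G, H ≠ ⊤ → Group.IsSolvable H := by
    intro H hH
    refine ih H ?_ fun a b => ?_
    · have h1 : Nat.card H < Nat.card G := by
        refine lt_of_le_of_ne (Subgroup.card_le_card_group H) fun e => hH (eq_top_of_card_eq H e)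
      omega
    · haveI := h (a : G) (b : G)
      have e : (closure ({a, b} : Set H)).map H.subtype = closure ({(a : G), (b : G)} : Set G) := by
        rw [MonoidHom.map_closure, Set.image_pair]
        rfl
      haveI : Group.IsSolvable ↥((closure ({a, b} : Set H)).map H.subtype) := by
        rw [e]; infer_instance
      exact Group.isSolvable_of_isSolvable_injective (f := ((closure ({a, b} : Set H)).equivMapOfInjective _
        H.subtype_injective).toMonoidHom) (MulEquiv.injective _)
  haveI hnt : Nontrivial G := by
    by_contra hnt
    rw [not_nontrivial_iff_subsingleton] at hnt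
    exact hns inferInstance
  have hsimple : IsSimpleGroup G := by
    refine ⟨fun N hN => ?_⟩
    by_contra hcon
    push Not at hcon
    obtain ⟨hbot, htop⟩ := hcon
    haveI := hN
    haveI := hsub N htop
    haveI : Group.IsSolvable (G ⧸ N) := by
      refine ih (G ⧸ N) ?_ fun a b => ?_
      · have h1 : Nat.card N * N.index = Nat.card G := N.card_mul_index
        have h2 : 1 < Nat.card N :=
          lt_of_le_of_ne Nat.card_pos fun e => hbot (card_eq_one.mp e.symm)
        have h3 : 0 < N.index := Nat.pos_of_ne_zero Subgroup.FiniteIndex.index_ne_zero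
        show N.index ≤ n
        nlinarith
      · obtain ⟨a, rfl⟩ := QuotientGroup.mk'_surjective N a
        obtain ⟨b, rfl⟩ := QuotientGroup.mk'_surjective N b
        haveI := h a b
        have e : (closure ({a, b} : Set G)).map (QuotientGroup.mk' N) =
            closure ({QuotientGroup.mk' N a, QuotientGroup.mk' N b} : Set (G ⧸ N)) := by
          rw [MonoidHom.map_closure, Set.image_pair]
        rw [← e]
        exact Group.isSolvable_of_surjective
          ((QuotientGroup.mk' N).subgroupMap_surjective (closure ({a, b} : Set G)))
    exact hns (Group.isSolvable_of_ker_le_range N.subtype (QuotientGroup.mk' N)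
      (by rw [QuotientGroup.ker_mk', Subgroup.range_subtype]))
  obtain ⟨p, hp, hpd, hp5⟩ : ∃ p : ℕ, p.Prime ∧ p ∣ Nat.card G ∧ 5 ≤ p := by
    by_contra hcon
    push Not at hcon
    refine hns (H33.isSolvable_of_two_primes Nat.prime_two Nat.prime_three fun r hr hrd => ?_)
    have h5 := hcon r hr hrd
    interval_cases r <;> simp_all (config := {decide := true})
  haveI : Fact p.Prime := ⟨hp⟩
  have hS : Setup G p := ⟨hp5, hpd, hsimple, hns, hsub, fun a b e => by
    haveI := h a b
    haveI : Group.IsSolvable ↥(⊤ : Subgroup G) := e ▸ ‹_›
    exact hns (Group.isSolvable_of_surjective (f := (Subgroup.topEquiv : (⊤ : Subgroup G) ≃* G).toMonoidHom)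
      Subgroup.topEquiv.surjective)⟩
  exact hS.false_of_plane_case fun E => hplane G p E

end H83.TwoGen
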