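import Mathlib

/-!
If every solubilizer is a subgroup then the group is soluble, given two-generator solubility.
-/

set_option autoImplicit false
set_option linter.style.haveILetI false
set_option linter.unusedSectionVars false

namespace H83.TwoGen

open Subgroup

universe u

/-- Solubilizers are subgroups. -/
def SolSubgroups (G : Type u) [Group G] : Prop :=
  ∀ x : G, ∃ H : Subgroup G,
    (H : Set G) = {y : G | Group.IsSolvable ↥(closure ({x, y} : Set G))}

variable {G : Type u} [Group G]

theorem solvable_pair_map_iff {K : Type u} [Group K] {f : K →* G} (hf : Function.Injective f)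
    (x y : K) :
    Group.IsSolvable ↥(closure ({f x, f y} : Set G)) ↔
      Group.IsSolvable ↥(closure ({x, y} : Set K)) := by
  have e : closure ({f x, f y} : Set G) = (closure ({x, y} : Set K)).map f := by
    rw [MonoidHom.map_closure, Set.image_pair]
  rw [e]
  constructor
  · intro h
    haveI := h
    exact Group.isSolvable_of_isSolvable_injective
      (f := ((closure ({x, y} : Set K)).equivMapOfInjective f hf).toMonoidHom)
      (MulEquiv.injective _)
  · intro h
    haveI := h
    exact Group.isSolvable_of_surjective (f.subgroupMap_surjective (closure ({x, y} : Set K)))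

theorem solvable_pair_quotient_iff {N : Subgroup G} [N.Normal] [Group.IsSolvable N] (x y : G) :
    Group.IsSolvable ↥(closure ({QuotientGroup.mk' N x, QuotientGroup.mk' N y} : Set (G ⧸ N))) ↔
      Group.IsSolvable ↥(closure ({x, y} : Set G)) := by
  set f := QuotientGroup.mk' N
  have e : closure ({f x, f y} : Set (G ⧸ N)) = (closure ({x, y} : Set G)).map f := by
    rw [MonoidHom.map_closure, Set.image_pair]
  rw [e]
  constructor
  · intro h
    haveI := h
    set C := closure ({x, y} : Set G)
    have hker : (f.subgroupMap C).ker = N.subgroupOf C := by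
      ext c
      rw [MonoidHom.mem_ker, Subgroup.mem_subgroupOf, Subtype.ext_iff, MonoidHom.subgroupMap_apply_coe]
      exact QuotientGroup.eq_one_iff _
    haveI : Group.IsSolvable ↥(N.subgroupOf C) :=
      Group.isSolvable_of_isSolvable_injective
        (f := (C.subtype.comp (N.subgroupOf C).subtype).codRestrict N fun c => c.2)
        (fun a b hab => Subtype.ext (Subtype.ext (congrArg Subtype.val hab :)))
    exact Group.isSolvable_of_ker_le_range (N.subgroupOf C).subtype (f.subgroupMap C)
      (by rw [hker, Subgroup.range_subtype])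
  · intro h
    haveI := h
    exact Group.isSolvable_of_surjective (f.subgroupMap_surjective _)

theorem SolSubgroups.subgroup (h : SolSubgroups G) (K : Subgroup G) : SolSubgroups ↥K := by
  intro x
  obtain ⟨H, hH⟩ := h x
  refine ⟨H.subgroupOf K, Set.ext fun y => ?_⟩
  have h1 : ((y : G) ∈ (H : Set G)) ↔
      Group.IsSolvable ↥(closure ({(x : G), (y : G)} : Set G)) := by rw [hH]; rfl
  exact h1.trans (solvable_pair_map_iff K.subtype_injective x y)

theorem SolSubgroups.quotient (h : SolSubgroups G) (N : Subgroup G) [N.Normal]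
    [Group.IsSolvable N] : SolSubgroups (G ⧸ N) := by
  intro x
  obtain ⟨x, rfl⟩ := QuotientGroup.mk'_surjective N x
  obtain ⟨H, hH⟩ := h x
  refine ⟨H.map (QuotientGroup.mk' N), Set.ext fun y => ⟨?_, fun hy => ?_⟩⟩
  · rintro ⟨z, hz, rfl⟩
    have h1 : z ∈ (H : Set G) := hz
    rw [hH] at h1
    exact (solvable_pair_quotient_iff x z).mpr h1
  · obtain ⟨y, rfl⟩ := QuotientGroup.mk'_surjective N y
    have h1 : y ∈ (H : Set G) := by
      rw [hH]
      exact (solvable_pair_quotient_iff x y).mp hy
    exact mem_map_of_mem _ h1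

/-- A nonabelian simple group with soluble proper subgroups has a proper solubilizer which is not
a subgroup. -/
theorem not_solSubgroups_of_simple [Finite G] [IsSimpleGroup G] (hns : ¬ Group.IsSolvable G)
    (hsub : ∀ H : Subgroup G, H ≠ ⊤ → Group.IsSolvable H) {a b : G}
    (hab : closure ({a, b} : Set G) = ⊤) : ¬ SolSubgroups G := by
  classical
  intro h
  choose S hS using h
  have hmem : ∀ {z y : G}, y ∈ S z ↔ Group.IsSolvable ↥(closure ({z, y} : Set G)) := by
    intro z y
    rw [← SetLike.mem_coe, hS z]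
    rfl
  have htop : ¬ Group.IsSolvable ↥(⊤ : Subgroup G) := fun h => hns (by
    haveI := h
    exact Group.isSolvable_of_surjective (f := (Subgroup.topEquiv : (⊤ : Subgroup G) ≃* G).toMonoidHom)
      Subgroup.topEquiv.surjective)
  have hsym : ∀ {z y : G}, y ∈ S z → z ∈ S y := by
    intro z y hy
    rw [hmem, Set.pair_comm]
    exact hmem.mp hy
  have hconj : ∀ {z : G}, S z = ⊤ → ∀ g : G, S (g * z * g⁻¹) = ⊤ := by
    intro z hz g
    refine eq_top_iff.mpr fun y _ => hmem.mpr ?_
    have h1 : g⁻¹ * y * g ∈ S z := hz ▸ mem_top _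
    have h2 := (solvable_pair_map_iff (f := (MulAut.conj g).toMonoidHom) (MulAut.conj g).injective z
      (g⁻¹ * y * g)).mpr (hmem.mp h1)
    have e1 : (MulAut.conj g).toMonoidHom (g⁻¹ * y * g) = y := by
      show g * (g⁻¹ * y * g) * g⁻¹ = y
      group
    rwa [e1] at h2
  set X : Subgroup G := closure {z : G | S z = ⊤}
  have hXn : X.Normal := by
    refine ⟨fun z hz g => ?_⟩
    induction hz using Subgroup.closure_induction with
    | mem w hw => exact subset_closure (hconj hw g)
    | one => simp [one_mem]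
    | mul u v _ _ hu hv =>
      rw [show g * (u * v) * g⁻¹ = g * u * g⁻¹ * (g * v * g⁻¹) by group]
      exact mul_mem hu hv
    | inv u _ hu =>
      rw [show g * u⁻¹ * g⁻¹ = (g * u * g⁻¹)⁻¹ by group]
      exact inv_mem hu
  have hnob : b ∉ S a := fun hb => htop (hab ▸ hmem.mp hb)
  have hXbot : X = ⊥ := by
    refine hXn.eq_bot_or_eq_top.resolve_right fun hX => hnob ?_
    have hle : X ≤ S a := (closure_le _).mpr fun z hz => hsym ((hz : S z = ⊤) ▸ mem_top a)
    exact hle (hX ▸ mem_top b)
  have hproper : ∀ {z : G}, z ≠ 1 → S z ≠ ⊤ := fun {z} hz1 hz =>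
    hz1 (Subgroup.mem_bot.mp (hXbot ▸ (subset_closure hz : z ∈ X)))
  have hmax : ∀ {z : G} {M : Subgroup G}, M ≠ ⊤ → z ∈ M → M ≤ S z := by
    intro z M hM hz y hy
    haveI := hsub M hM
    refine hmem.mpr (Group.isSolvable_of_isSolvable_injective
      (f := Subgroup.inclusion ((closure_le M).mpr ?_)) (Subgroup.inclusion_injective _))
    rintro _ (rfl | rfl)
    · exact hz
    · exact hy
  have hself : ∀ z : G, z ∈ S z := by
    intro z
    rw [hmem]
    have e : closure ({z, z} : Set G) = zpowers z := by simp [Subgroup.zpowers_eq_closure]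
    rw [e]
    exact Group.isSolvable_of_comm fun u v => mul_comm' u v
  have heq : ∀ {z y : G}, z ≠ 1 → y ≠ 1 → y ∈ S z → S y = S z := by
    intro z y hz hy hyz
    have h1 : S z ≤ S y := hmax (hproper hz) hyz
    exact le_antisymm (hmax (hproper hy) (h1 (hself z))) h1
  have hSconj : ∀ {z : G}, z ≠ 1 → ∀ g : G,
      S (g * z * g⁻¹) = (S z).map (MulAut.conj g).toMonoidHom := by
    intro z hz g
    have hne : g * z * g⁻¹ ≠ 1 := fun h => hz (conj_eq_one_iff.mp h)
    have htop2 : (S z).map (MulAut.conj g).toMonoidHom ≠ ⊤ := fun e => hproper hz (by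
      refine eq_top_of_card_eq _ ?_
      rw [← card_map_of_injective (K := S z) (f := (MulAut.conj g).toMonoidHom)
        (MulAut.conj g).injective, e, card_top])
    refine le_antisymm ?_ (hmax htop2 ⟨z, hself z, rfl⟩)
    intro y hy
    have h1 : g⁻¹ * y * g ∈ S z := by
      rw [hmem]
      refine (solvable_pair_map_iff (f := (MulAut.conj g).toMonoidHom) (MulAut.conj g).injective z
        (g⁻¹ * y * g)).mp ?_
      have e1 : (MulAut.conj g).toMonoidHom (g⁻¹ * y * g) = y := by
        show g * (g⁻¹ * y * g) * g⁻¹ = y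
        group
      rw [e1]
      exact hmem.mp hy
    exact ⟨_, h1, by show g * (g⁻¹ * y * g) * g⁻¹ = y; group⟩
  have hnorm : ∀ {z : G}, z ≠ 1 → ∀ g : G,
      (S z).map (MulAut.conj g).toMonoidHom = S z → g ∈ S z := by
    intro z hz g hg
    have hgN : g ∈ normalizer (S z : Set G) := mem_normalizer_iff_map_conj_eq.mpr hg
    refine hmax ?_ (le_normalizer (hself z)) hgN
    intro hN
    rcases (normalizer_eq_top_iff.mp hN).eq_bot_or_eq_top with e | e
    · exact hz (Subgroup.mem_bot.mp (e ▸ hself z))
    · exact hproper hz e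
  -- conjugates of nonidentity elements of `S z`
  let F : ∀ z : G, (G ⧸ S z) × {m : ↥(S z) // m ≠ 1} → G :=
    fun z q => q.1.out * (q.2.1 : G) * q.1.out⁻¹
  have hF1 : ∀ {z : G}, z ≠ 1 → ∀ q, F z q ≠ 1 ∧
      S (F z q) = (S z).map (MulAut.conj q.1.out).toMonoidHom := by
    intro z hz q
    have hm : (q.2.1 : G) ≠ 1 := fun h => q.2.2 (Subtype.ext h)
    refine ⟨fun h => hm (conj_eq_one_iff.mp h), ?_⟩
    rw [show F z q = q.1.out * (q.2.1 : G) * q.1.out⁻¹ from rfl, hSconj hm, heq hz hm q.2.1.2]
  have hFinj : ∀ {z : G}, z ≠ 1 → Function.Injective (F z) := by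
    intro z hz q q' he
    have h1 := (hF1 hz q).2.symm.trans ((congrArg S he).trans (hF1 hz q').2)
    have h2 : q.1.out⁻¹ * q'.1.out ∈ S z := by
      refine hnorm hz _ ?_
      have := congrArg (fun H : Subgroup G => H.map (MulAut.conj q.1.out⁻¹).toMonoidHom) h1
      simp only [map_map] at this
      refine Eq.trans ?_ (this.symm.trans ?_)
      · congr 1; ext y; simp [mul_assoc]
      · conv_rhs => rw [← Subgroup.map_id (S z)]
        congr 1; ext y; simp [mul_assoc]
    have h3 : q.1 = q'.1 := by
      rw [← QuotientGroup.out_eq' q.1, ← QuotientGroup.out_eq' q'.1]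
      exact QuotientGroup.eq.mpr h2
    have h4 : (q.2.1 : G) = q'.2.1 := by
      have he' : q.1.out * (q.2.1 : G) * q.1.out⁻¹ = q'.1.out * (q'.2.1 : G) * q'.1.out⁻¹ := he
      rw [h3] at he'
      exact mul_left_cancel (mul_right_cancel he')
    exact Prod.ext h3 (Subtype.ext (Subtype.ext h4))
  have hcount : ∀ z : G, Nat.card ((G ⧸ S z) × {m : ↥(S z) // m ≠ 1}) =
      (S z).index * (Nat.card ↥(S z) - 1) := by
    intro z
    haveI := Fintype.ofFinite ↥(S z)
    rw [Nat.card_prod]
    congr 1
    rw [Nat.card_eq_fintype_card, Fintype.card_subtype_compl, Fintype.card_subtype_eq,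
      Nat.card_eq_fintype_card]
  have hbig : ∀ {z : G}, z ≠ 1 → Nat.card G ≤ 2 * ((S z).index * (Nat.card ↥(S z) - 1)) := by
    intro z hz
    have h2 : 2 ≤ Nat.card ↥(S z) :=
      Finite.one_lt_card_iff_nontrivial.mpr ⟨⟨⟨z, hself z⟩, 1, fun h => hz (congrArg Subtype.val h)⟩⟩
    calc Nat.card G = (S z).index * Nat.card ↥(S z) := (index_mul_card _).symm
      _ ≤ (S z).index * (2 * (Nat.card ↥(S z) - 1)) := Nat.mul_le_mul_left _ (by omega)
      _ = 2 * ((S z).index * (Nat.card ↥(S z) - 1)) := by ring
  obtain ⟨z0, hz0⟩ : ∃ z : G, z ≠ 1 := exists_ne 1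
  obtain ⟨z1, hz1, hz1'⟩ : ∃ z1 : G, z1 ≠ 1 ∧ z1 ∉ Set.range (F z0) := by
    by_contra hcon
    push Not at hcon
    have hsurj : Function.Surjective
        (fun o : Option ((G ⧸ S z0) × {m : ↥(S z0) // m ≠ 1}) => o.elim 1 (F z0)) := by
      intro y
      by_cases hy : y = 1
      · exact ⟨none, hy.symm⟩
      · obtain ⟨q, hq⟩ := hcon y hy
        exact ⟨some q, hq⟩
    have h1 := Nat.card_le_card_of_surjective _ hsurj
    rw [Finite.card_option, hcount, ← index_mul_card (S z0)] at h1
    have hi : 2 ≤ (S z0).index := by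
      have h2 := Nat.pos_of_ne_zero (Subgroup.FiniteIndex.index_ne_zero (H := S z0))
      have h3 : (S z0).index ≠ 1 := fun h => hproper hz0 (index_eq_one.mp h)
      omega
    have hc : 1 ≤ Nat.card ↥(S z0) := Nat.card_pos
    obtain ⟨c, hc'⟩ := Nat.exists_eq_add_of_le hc
    rw [hc', Nat.add_sub_cancel_left, Nat.mul_add, Nat.mul_one] at h1
    omega
  have hdisj : ∀ q q', F z0 q ≠ F z1 q' := by
    intro q q' he
    refine hz1' ?_
    have hS0 := (hF1 hz0 q).2
    have hS1 := (hF1 hz1 q').2
    rw [he, hS1] at hS0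
    have hmem1 : q'.1.out * z1 * q'.1.out⁻¹ ∈ (S z0).map (MulAut.conj q.1.out).toMonoidHom :=
      hS0 ▸ ⟨z1, hself z1, rfl⟩
    obtain ⟨m, hm, hme⟩ := hmem1
    set g := q'.1.out⁻¹ * q.1.out
    have hz1e : z1 = g * m * g⁻¹ := by
      have hme' : q.1.out * m * q.1.out⁻¹ = q'.1.out * z1 * q'.1.out⁻¹ := hme
      calc z1 = q'.1.out⁻¹ * (q'.1.out * z1 * q'.1.out⁻¹) * q'.1.out := by group
        _ = g * m * g⁻¹ := by rw [← hme']; simp only [g]; group
    obtain ⟨k, hk⟩ := QuotientGroup.mk_out_eq_mul (S z0) g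
    set r := (QuotientGroup.mk g : G ⧸ S z0)
    refine ⟨(r, ⟨⟨(k : G)⁻¹ * m * k, mul_mem (mul_mem (inv_mem k.2) hm) k.2⟩, fun h => ?_⟩), ?_⟩
    · have hm1 : (k : G)⁻¹ * m * k = 1 := congrArg Subtype.val h
      refine hz1 ?_
      rw [hz1e, show m = k * ((k : G)⁻¹ * m * k) * (k : G)⁻¹ by group, hm1]
      group
    · show r.out * ((k : G)⁻¹ * m * k) * r.out⁻¹ = z1
      rw [hk, hz1e]
      group
  have hinj : Function.Injective
      (fun o : Option (((G ⧸ S z0) × {m : ↥(S z0) // m ≠ 1}) ⊕
        ((G ⧸ S z1) × {m : ↥(S z1) // m ≠ 1})) => o.elim 1 (Sum.elim (F z0) (F z1))) := by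
    rintro (_ | q | q) (_ | q' | q') he
    · rfl
    · exact absurd he.symm (hF1 hz0 q').1
    · exact absurd he.symm (hF1 hz1 q').1
    · exact absurd he (hF1 hz0 q).1
    · exact congrArg (fun r => some (Sum.inl r)) (hFinj hz0 he)
    · exact absurd he (hdisj q q')
    · exact absurd he (hF1 hz1 q).1
    · exact absurd he.symm (hdisj q' q)
    · exact congrArg (fun r => some (Sum.inr r)) (hFinj hz1 he)
  have h1 := Nat.card_le_card_of_injective _ hinj
  rw [Finite.card_option, Nat.card_sum, hcount, hcount] at h1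
  have := hbig hz0
  have := hbig hz1
  omega

theorem solvable_of_solubilizers_aux
    (htwo : ∀ (K : Type u) [Group K] [Finite K],
      (∀ a b : K, Group.IsSolvable (closure ({a, b} : Set K))) → Group.IsSolvable K) :
    ∀ (n : ℕ) (G : Type u) [Group G] [Finite G], Nat.card G ≤ n → SolSubgroups G →
      Group.IsSolvable G := by
  intro n
  induction n with
  | zero => intro G _ _ hn; exact absurd (Nat.card_pos (α := G)) (by omega)
  | succ n ih =>
  intro G _ _ hn h
  by_contra hns
  have hsub : ∀ H : Subgroup G, H ≠ ⊤ → Group.IsSolvable H := by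
    intro H hH
    refine ih H ?_ (h.subgroup H)
    have h1 : Nat.card H < Nat.card G :=
      lt_of_le_of_ne (Subgroup.card_le_card_group H) fun e => hH (eq_top_of_card_eq H e)
    omega
  haveI hnt : Nontrivial G := by
    by_contra hnt
    rw [not_nontrivial_iff_subsingleton] at hnt
    exact hns inferInstance
  haveI : IsSimpleGroup G := by
    refine ⟨fun N hN => ?_⟩
    by_contra hcon
    push Not at hcon
    obtain ⟨hbot, htop⟩ := hcon
    haveI := hN
    haveI := hsub N htop
    haveI : Group.IsSolvable (G ⧸ N) := by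
      refine ih (G ⧸ N) ?_ (h.quotient N)
      have h1 : Nat.card N * N.index = Nat.card G := N.card_mul_index
      have h2 : 1 < Nat.card N :=
        lt_of_le_of_ne Nat.card_pos fun e => hbot (card_eq_one.mp e.symm)
      have h3 : 0 < N.index := Nat.pos_of_ne_zero Subgroup.FiniteIndex.index_ne_zero
      show N.index ≤ n
      nlinarith
    exact hns (Group.isSolvable_of_ker_le_range N.subtype (QuotientGroup.mk' N)
      (by rw [QuotientGroup.ker_mk', Subgroup.range_subtype]))
  obtain ⟨a, b, hab⟩ : ∃ a b : G, closure ({a, b} : Set G) = ⊤ := by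
    by_contra hcon
    push Not at hcon
    exact hns (htwo G fun a b => hsub _ (hcon a b))
  exact not_solSubgroups_of_simple hns hsub hab h

/-- Solubilizers are subgroups only in soluble groups. -/
theorem solvable_of_solubilizers {G : Type u} [Group G] [Finite G]
    (htwo : ∀ (K : Type u) [Group K] [Finite K],
      (∀ a b : K, Group.IsSolvable (closure ({a, b} : Set K))) → Group.IsSolvable K)
    (h : ∀ x : G, ∃ H : Subgroup G,
      (H : Set G) = {y : G | Group.IsSolvable ↥(closure ({x, y} : Set G))}) : Group.IsSolvable G :=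
  solvable_of_solubilizers_aux htwo (Nat.card G) G le_rfl h

end H83.TwoGen
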